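import Cfsg.Agent.HallHigman.Dim

/-!
Irreducible constituents for a coprime group of operators: complete reducibility, independence of
non-isomorphic constituents, and invariant copies of a constituent fixed by a twist.
-/

set_option autoImplicit false

namespace Cfsg.Agent.HallHigman

variable {K : Type*} [Field K] {V : Type*} [AddCommGroup V] [Module K V] {Q : Type*} [Group Q]
  (τ : Q →* Module.End K V)

/-- An invariant subspace. -/
def Inv (W : Submodule K V) : Prop := ∀ g, ∀ v ∈ W, τ g v ∈ W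

/-- An irreducible invariant subspace. -/
def IsSimpleSub (W : Submodule K V) : Prop :=
  W ≠ ⊥ ∧ Inv τ W ∧ ∀ U : Submodule K V, U ≤ W → Inv τ U → U = ⊥ ∨ U = W

/-- Equivariant equivalence of subspaces. -/
def Isom (W W' : Submodule K V) : Prop :=
  ∃ f : W ≃ₗ[K] W', ∀ (g : Q) (w w' : W), (w' : V) = τ g w → (f w' : V) = τ g (f w)

variable {τ}

theorem Isom.refl (W : Submodule K V) : Isom τ W W := ⟨LinearEquiv.refl K W, fun _ _ _ h => h⟩

theorem Isom.trans {W W' W'' : Submodule K V} (h : Isom τ W W') (h' : Isom τ W' W'') : Isom τ W W'' := by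
  obtain ⟨f, hf⟩ := h
  obtain ⟨f', hf'⟩ := h'
  exact ⟨f.trans f', fun g w w' e => hf' g (f w) (f w') (hf g w w' e)⟩

theorem Isom.symm {W W' : Submodule K V} (hW : Inv τ W) (h : Isom τ W W') : Isom τ W' W := by
  obtain ⟨f, hf⟩ := h
  refine ⟨f.symm, fun g u u' e => ?_⟩
  obtain ⟨w, rfl⟩ := f.surjective u
  have h1 := hf g w ⟨τ g w, hW g _ w.2⟩ rfl
  have h2 : u' = f ⟨τ g w, hW g _ w.2⟩ := Subtype.ext (e.trans h1.symm)
  rw [h2, f.symm_apply_apply, f.symm_apply_apply]

theorem Isom.simple {W W' : Submodule K V} (hW : IsSimpleSub τ W) (h : Isom τ W W') :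
    IsSimpleSub τ W' := by
  obtain ⟨f, hf⟩ := h
  have hinv : Inv τ W' := fun g v hv => by
    obtain ⟨w, hw⟩ := f.surjective ⟨v, hv⟩
    rw [show v = (f w : V) by rw [hw], ← hf g w ⟨τ g w, hW.2.1 g _ w.2⟩ rfl]
    exact Subtype.coe_prop _
  refine ⟨fun hb => hW.1 ?_, hinv, fun U hU hUi => ?_⟩
  · rw [Submodule.eq_bot_iff]
    intro w hw
    have h1 : f ⟨w, hw⟩ = 0 := Subtype.ext (by
      have := (f ⟨w, hw⟩).2
      simp only [hb, Submodule.mem_bot] at this
      exact this)
    exact congrArg Subtype.val ((map_eq_zero_iff f f.injective).1 h1)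
  · set U₀ := ((U.comap W'.subtype).comap f.toLinearMap).map W.subtype with hU₀
    have hmem : ∀ w : W, (w : V) ∈ U₀ ↔ (f w : V) ∈ U := fun w =>
      ⟨fun ⟨a, ha, e⟩ => (Subtype.ext e : a = w) ▸ ha, fun h => ⟨w, h, rfl⟩⟩
    have h0 : Inv τ U₀ := by
      rintro g _ ⟨a, ha, rfl⟩
      refine (hmem ⟨τ g a, hW.2.1 g _ a.2⟩).2 ?_
      rw [hf g a _ rfl]
      exact hUi g _ ha
    rcases hW.2.2 U₀ (Submodule.map_subtype_le _ _) h0 with h1 | h1
    · left
      rw [Submodule.eq_bot_iff]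
      intro u hu
      obtain ⟨w, hw⟩ := f.surjective ⟨u, hU hu⟩
      have h2 : (w : V) ∈ U₀ := (hmem w).2 (by rw [hw]; exact hu)
      rw [h1, Submodule.mem_bot] at h2
      have h3 : w = 0 := Subtype.ext h2
      rw [h3, map_zero] at hw
      exact (congrArg Subtype.val hw).symm
    · right
      refine le_antisymm hU fun u hu => ?_
      obtain ⟨w, hw⟩ := f.surjective ⟨u, hu⟩
      have h2 := (hmem w).1 (h1.ge w.2)
      rwa [hw] at h2

theorem exists_simple_le [FiniteDimensional K V] : ∀ {U : Submodule K V}, U ≠ ⊥ → Inv τ U →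
    ∃ W ≤ U, IsSimpleSub τ W := by
  intro U
  induction U using WellFoundedLT.induction with
  | ind U ih =>
    intro hU hUi
    by_cases h : ∀ U' : Submodule K V, U' ≤ U → Inv τ U' → U' = ⊥ ∨ U' = U
    · exact ⟨U, le_rfl, hU, hUi, h⟩
    · push Not at h
      obtain ⟨U', hle, hi, hb, hne⟩ := h
      obtain ⟨W, hW, hs⟩ := ih U' (lt_of_le_of_ne hle hne) hb hi
      exact ⟨W, hW.trans hle, hs⟩

/-- Complete reducibility: a nontrivial operator is nontrivial on some constituent. -/
theorem exists_simple_nontrivial [Fintype Q] [FiniteDimensional K V] (hQ : (Fintype.card Q : K) ≠ 0)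
    {b : Q} (hb : τ b ≠ 1) : ∃ W, IsSimpleSub τ W ∧ ∃ w ∈ W, τ b w ≠ w := by
  classical
  by_contra hall
  push Not at hall
  set S : Submodule K V := sSup {W | IsSimpleSub τ W} with hS
  have hfix : ∀ v ∈ S, τ b v = v := by
    intro v hv
    have hle : S ≤ LinearMap.ker (τ b - 1) := sSup_le fun W hW w hw => by
      rw [LinearMap.mem_ker, LinearMap.sub_apply, Module.End.one_apply, hall W hW w hw, sub_self]
    have := LinearMap.mem_ker.1 (hle hv)
    rwa [LinearMap.sub_apply, Module.End.one_apply, sub_eq_zero] at this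
  have hSi : Inv τ S := by
    intro g v hv
    have hle : S ≤ S.comap (τ g) := sSup_le fun W hW w hw =>
      (le_sSup (show W ∈ {W | IsSimpleSub τ W} from hW)) (hW.2.1 g w hw)
    exact hle hv
  obtain ⟨P, hP⟩ : ∃ P : Module.End K V, (∀ v, P v ∈ S) ∧ ∀ v ∈ S, P v = v := by
    obtain ⟨C, hC⟩ := Submodule.exists_isCompl S
    exact ⟨S.subtype.comp (S.projectionOnto C hC), fun v => Subtype.coe_prop _, fun v hv =>
      congrArg Subtype.val (Submodule.projectionOnto_apply_left hC ⟨v, hv⟩)⟩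
  set N : Module.End K V := (Fintype.card Q : K)⁻¹ • ∑ g : Q, τ g * P * τ g⁻¹ with hN
  have hNS : ∀ v, N v ∈ S := fun v => by
    simp only [hN, LinearMap.smul_apply, LinearMap.sum_apply]
    exact S.smul_mem _ (S.sum_mem fun g _ => hSi g _ (hP.1 _))
  have hNid : ∀ v ∈ S, N v = v := fun v hv => by
    simp only [hN, LinearMap.smul_apply, LinearMap.sum_apply, Module.End.mul_apply]
    rw [Finset.sum_congr rfl fun g _ => by rw [hP.2 _ (hSi g⁻¹ v hv), apply_inv_apply],
      Finset.sum_const, Finset.card_univ, ← Nat.cast_smul_eq_nsmul K, inv_smul_smul₀ hQ]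
  have hNc : ∀ k v, N (τ k v) = τ k (N v) := fun k v => by
    simp only [hN, LinearMap.smul_apply, LinearMap.sum_apply, Module.End.mul_apply, map_smul, map_sum]
    congr 1
    refine (Fintype.sum_equiv (Equiv.mulLeft k) _ _ fun g => ?_).symm
    simp only [Equiv.coe_mulLeft, mul_inv_rev, map_mul, Module.End.mul_apply, inv_apply_apply]
  have hker : LinearMap.ker N = ⊥ := by
    by_contra hne
    obtain ⟨W, hW, hs⟩ := exists_simple_le hne (fun g v hv => by
      rw [LinearMap.mem_ker] at hv ⊢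
      rw [hNc, hv, map_zero])
    obtain ⟨w, hw, hw0⟩ := Submodule.exists_mem_ne_zero_of_ne_bot hs.1
    have h1 := hNid w (le_sSup (show W ∈ {W | IsSimpleSub τ W} from hs) hw)
    rw [LinearMap.mem_ker.1 (hW hw)] at h1
    exact hw0 h1.symm
  refine hb (LinearMap.ext fun v => hfix v ?_)
  have h1 : v - N v ∈ LinearMap.ker N := by
    rw [LinearMap.mem_ker, map_sub, hNid _ (hNS v), sub_self]
  rw [hker, Submodule.mem_bot, sub_eq_zero] at h1
  rw [h1]
  exact hNS v

/-- A simple constituent inside a sum of simple subspaces is isomorphic to one of them. -/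
theorem exists_isom_of_le_iSup {ι : Type*} [DecidableEq ι] (f : ι → Submodule K V) {W : Submodule K V}
    (hW : IsSimpleSub τ W) (S : Finset ι) (hf : ∀ i ∈ S, IsSimpleSub τ (f i)) (hle : W ≤ S.sup f) :
    ∃ i ∈ S, Isom τ W (f i) := by
  induction S using Finset.induction_on with
  | empty =>
    rw [Finset.sup_empty, le_bot_iff] at hle
    exact absurd hle hW.1
  | @insert a S ha ih =>
    set T := S.sup f with hT
    have hTi : Inv τ T := by
      intro g v hv
      have hle' : T ≤ T.comap (τ g) := Finset.sup_le fun i hi w hw =>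
        (Finset.le_sup hi : f i ≤ T) ((hf i (Finset.mem_insert_of_mem hi)).2.1 g w hw)
      exact hle' hv
    by_cases hWT : W ≤ T
    · obtain ⟨i, hi, h⟩ := ih (fun i hi => hf i (Finset.mem_insert_of_mem hi)) hWT
      exact ⟨i, Finset.mem_insert_of_mem hi, h⟩
    refine ⟨a, Finset.mem_insert_self a S, ?_⟩
    have hA := hf a (Finset.mem_insert_self a S)
    rw [Finset.sup_insert] at hle
    have hWT0 : W ⊓ T = ⊥ := (hW.2.2 _ inf_le_left fun g v hv => ⟨hW.2.1 g v hv.1, hTi g v hv.2⟩).resolve_right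
      fun h => hWT (h ▸ inf_le_right)
    have hAT0 : f a ⊓ T = ⊥ := (hA.2.2 _ inf_le_left fun g v hv => ⟨hA.2.1 g v hv.1, hTi g v hv.2⟩).resolve_right
      fun h => hWT fun w hw => by
        have hle2 : f a ⊔ T ≤ T := sup_le (h ▸ inf_le_right) le_rfl
        exact hle2 (hle hw)
    have hex : ∀ w : W, ∃ u : f a, (w : V) - u ∈ T := fun w => by
      obtain ⟨u, hu, t, ht, e⟩ := Submodule.mem_sup.1 (hle w.2)
      exact ⟨⟨u, hu⟩, by rw [← e]; simpa using ht⟩
    choose φ hφ using hex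
    have huniq : ∀ (v : V) (u u' : f a), v - u ∈ T → v - u' ∈ T → u = u' := fun v u u' h h' => by
      have h1 : ((u' - u : f a) : V) ∈ f a ⊓ T :=
        ⟨Subtype.coe_prop _, by simpa using T.sub_mem h h'⟩
      rw [hAT0, Submodule.mem_bot] at h1
      exact (sub_eq_zero.1 (Subtype.ext h1 : u' - u = 0)).symm
    let Φ : W →ₗ[K] f a :=
      { toFun := φ
        map_add' := fun x y => huniq _ _ _ (hφ (x + y)) (by
          have := T.add_mem (hφ x) (hφ y)
          rw [Submodule.coe_add, Submodule.coe_add]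
          convert this using 1
          abel)
        map_smul' := fun c x => huniq _ _ _ (hφ (c • x)) (by
          have := T.smul_mem c (hφ x)
          rw [RingHom.id_apply, Submodule.coe_smul, Submodule.coe_smul]
          rwa [smul_sub] at this) }
    have hinj : Function.Injective Φ := (injective_iff_map_eq_zero Φ).2 fun w hw => by
      have h1 := hφ w
      rw [show φ w = 0 from hw, Submodule.coe_zero, sub_zero] at h1
      have h2 : (w : V) ∈ W ⊓ T := ⟨w.2, h1⟩
      rw [hWT0, Submodule.mem_bot] at h2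
      exact Subtype.ext h2
    have hequ : ∀ (g : Q) (w w' : W), (w' : V) = τ g w → (Φ w' : V) = τ g (Φ w) := fun g w w' e =>
      congrArg Subtype.val (huniq _ (φ w') ⟨τ g (φ w), hA.2.1 g _ (φ w).2⟩ (hφ w') (by
        rw [e, ← map_sub]
        exact hTi g _ (hφ w)))
    have hsurj : Function.Surjective Φ := by
      have hr : (LinearMap.range Φ).map (f a).subtype = f a := by
        refine (hA.2.2 _ (Submodule.map_subtype_le _ _) ?_).resolve_left fun hb => hW.1 ?_
        · rintro g _ ⟨_, ⟨w, rfl⟩, rfl⟩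
          exact ⟨Φ ⟨τ g w, hW.2.1 g _ w.2⟩, ⟨_, rfl⟩, hequ g w _ rfl⟩
        · rw [Submodule.eq_bot_iff]
          intro w hw
          have h1 : ((Φ ⟨w, hw⟩ : f a) : V) ∈ (LinearMap.range Φ).map (f a).subtype := ⟨_, ⟨_, rfl⟩, rfl⟩
          rw [hb, Submodule.mem_bot] at h1
          exact congrArg Subtype.val (hinj ((Subtype.ext h1 : Φ ⟨w, hw⟩ = 0).trans (map_zero Φ).symm))
      intro u
      obtain ⟨_, ⟨w, rfl⟩, hw⟩ := hr.ge u.2
      exact ⟨w, Subtype.ext hw⟩
    exact ⟨LinearEquiv.ofBijective Φ ⟨hinj, hsurj⟩, hequ⟩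

section normalizer

variable {G : Type*} [Group G] {H : Subgroup G} (ρ : G →* Module.End K V)

theorem isom_map_of_mem {W W' : Submodule K V} {x : G} (hx : x ∈ Subgroup.normalizer (H : Set G))
    (h : Isom (ρ.comp H.subtype) W W') : Isom (ρ.comp H.subtype) (W.map (ρ x)) (W'.map (ρ x)) := by
  obtain ⟨f, hf⟩ := h
  let e := fun U : Submodule K V => Submodule.equivMapOfInjective (ρ x) (apply_injective ρ x) U
  refine ⟨(e W).symm.trans (f.trans (e W')), fun g w w' he => ?_⟩
  obtain ⟨a, rfl⟩ := (e W).surjective w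
  obtain ⟨a', rfl⟩ := (e W).surjective w'
  simp only [LinearEquiv.trans_apply, LinearEquiv.symm_apply_apply, e, Submodule.coe_equivMapOfInjective_apply] at he ⊢
  have hg : x⁻¹ * g * x ∈ H := (Subgroup.mem_normalizer_iff''.1 hx g).1 g.2
  have hconj : ∀ v, ρ x (ρ (x⁻¹ * g * x) v) = ρ g (ρ x v) := fun v => by
    rw [← Module.End.mul_apply, ← map_mul, ← Module.End.mul_apply, ← map_mul]
    congr 2
    group
  have h1 : (a' : V) = ρ (x⁻¹ * g * x) a := apply_injective ρ x (by
    rw [hconj]; exact he)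
  have h2 := hf ⟨_, hg⟩ a a' h1
  show ρ x (f a' : V) = ρ g (ρ x (f a))
  rw [← hconj]
  exact congrArg (ρ x) h2

theorem simple_map_of_mem {W : Submodule K V} {x : G} (hx : x ∈ Subgroup.normalizer (H : Set G))
    (h : IsSimpleSub (ρ.comp H.subtype) W) : IsSimpleSub (ρ.comp H.subtype) (W.map (ρ x)) := by
  have key : ∀ (y : G), y ∈ Subgroup.normalizer (H : Set G) → ∀ U : Submodule K V,
      Inv (ρ.comp H.subtype) U → Inv (ρ.comp H.subtype) (U.map (ρ y)) := by
    rintro y hy U hU g _ ⟨u, hu, rfl⟩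
    have hg : y⁻¹ * g * y ∈ H := (Subgroup.mem_normalizer_iff''.1 hy g).1 g.2
    refine ⟨ρ (y⁻¹ * g * y) u, hU ⟨_, hg⟩ u hu, ?_⟩
    show ρ y (ρ (y⁻¹ * g * y) u) = ρ g (ρ y u)
    rw [← Module.End.mul_apply, ← map_mul, ← Module.End.mul_apply, ← map_mul]
    congr 2
    group
  have hback : ∀ (y : G) (U : Submodule K V), (U.map (ρ y⁻¹)).map (ρ y) = U := fun y U => by
    rw [← Submodule.map_comp, show (ρ y).comp (ρ y⁻¹) = ρ y * ρ y⁻¹ from rfl, ← map_mul, mul_inv_cancel,
      map_one, Module.End.one_eq_id, Submodule.map_id]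
  refine ⟨fun hb => h.1 (((Submodule.map_injective_of_injective (apply_injective ρ x)).eq_iff'
    (Submodule.map_bot _)).1 hb), key x hx W h.2.1, fun U hU hUi => ?_⟩
  have h1 := h.2.2 (U.map (ρ x⁻¹)) (by
    rintro _ ⟨u, hu, rfl⟩
    obtain ⟨w, hw, rfl⟩ := hU hu
    rwa [inv_apply_apply]) (key _ (inv_mem hx) U hUi)
  rcases h1 with h1 | h1
  · left; rw [← hback x U, h1, Submodule.map_bot]
  · right; rw [← hback x U, h1]

/-- An invariant copy of a constituent that is fixed by a twist. -/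
theorem exists_invariant_copy [IsAlgClosed K] [FiniteDimensional K V] {W : Submodule K V} {y : G}
    (hy : y ∈ Subgroup.normalizer (H : Set G)) (hW : IsSimpleSub (ρ.comp H.subtype) W)
    (h : Isom (ρ.comp H.subtype) W (W.map (ρ y))) :
    ∃ W', Isom (ρ.comp H.subtype) W W' ∧ W'.map (ρ y) = W' := by
  obtain ⟨f, hf⟩ := h
  let θ : W ≃ₗ[K] W := (Submodule.equivMapOfInjective (ρ y) (apply_injective ρ y) W).trans f.symm
  have hθ : ∀ w : W, (f (θ w) : V) = ρ y w := fun w => by
    simp [θ]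
  let Hom : Submodule K (W →ₗ[K] V) :=
    { carrier := {φ | ∀ (g : H) (w w' : W), (w' : V) = ρ g w → φ w' = ρ g (φ w)}
      add_mem' := fun {a b} ha hb g w w' e => by
        rw [LinearMap.add_apply, LinearMap.add_apply, map_add, ha g w w' e, hb g w w' e]
      zero_mem' := fun g w w' _ => by simp
      smul_mem' := fun c a ha g w w' e => by
        rw [LinearMap.smul_apply, LinearMap.smul_apply, map_smul, ha g w w' e] }
  haveI : Nontrivial Hom := ⟨⟨W.subtype, fun g w w' e => e⟩, 0, fun hz => hW.1 (by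
    rw [Submodule.eq_bot_iff]
    intro w hw
    exact LinearMap.congr_fun (congrArg Subtype.val hz) ⟨w, hw⟩)⟩
  let Λ : Hom →ₗ[K] Hom :=
    { toFun := fun φ => ⟨(ρ y).comp ((φ : W →ₗ[K] V).comp θ.symm.toLinearMap), fun g w w' e => by
        have hg : y⁻¹ * g * y ∈ H := (Subgroup.mem_normalizer_iff''.1 hy g).1 g.2
        have hconj : ∀ v, ρ y (ρ (y⁻¹ * g * y) v) = ρ g (ρ y v) := fun v => by
          rw [← Module.End.mul_apply, ← map_mul, ← Module.End.mul_apply, ← map_mul]
          congr 2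
          group
        have h1 : ((θ.symm w' : W) : V) = ρ (y⁻¹ * g * y) (θ.symm w : W) := by
          refine apply_injective ρ y ?_
          rw [hconj, ← hθ, ← hθ, θ.apply_symm_apply, θ.apply_symm_apply]
          exact hf g w w' e
        show ρ y ((φ : W →ₗ[K] V) (θ.symm w')) = ρ g (ρ y ((φ : W →ₗ[K] V) (θ.symm w)))
        rw [φ.2 ⟨_, hg⟩ _ _ h1]
        exact hconj _⟩
      map_add' := fun a b => Subtype.ext (LinearMap.ext fun w => by simp)
      map_smul' := fun c a => Subtype.ext (LinearMap.ext fun w => by simp) }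
  obtain ⟨c, hc⟩ := Module.End.exists_eigenvalue Λ
  obtain ⟨φ, hφ⟩ := hc.exists_hasEigenvector
  have hinj : Function.Injective (φ : W →ₗ[K] V) := by
    rw [← LinearMap.ker_eq_bot]
    have h0 := hW.2.2 ((LinearMap.ker (φ : W →ₗ[K] V)).map W.subtype) (Submodule.map_subtype_le _ _) (by
      rintro g _ ⟨w, hw, rfl⟩
      refine ⟨⟨ρ g w, hW.2.1 g _ w.2⟩, ?_, rfl⟩
      show (φ : W →ₗ[K] V) _ = 0
      rw [φ.2 g w _ rfl, LinearMap.mem_ker.1 hw, map_zero])
    rcases h0 with h0 | h0
    · exact ((Submodule.map_injective_of_injective W.injective_subtype).eq_iff' (Submodule.map_bot _)).1 h0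
    · refine absurd (Subtype.ext (LinearMap.ext fun w => ?_)) hφ.2
      obtain ⟨w', hw', e⟩ := h0.ge w.2
      rw [← (Subtype.ext e : w' = w)]
      exact hw'
  refine ⟨LinearMap.range (φ : W →ₗ[K] V), ⟨LinearEquiv.ofInjective _ hinj, fun g w w' e => φ.2 g w w' e⟩, ?_⟩
  have heig : ∀ w, ρ y ((φ : W →ₗ[K] V) w) = c • (φ : W →ₗ[K] V) (θ w) := fun w => by
    have h1 := LinearMap.congr_fun (congrArg Subtype.val hφ.apply_eq_smul) (θ w)
    simpa [Λ] using h1
  have hc0 : c ≠ 0 := by
    intro h0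
    obtain ⟨w, hw, hw0⟩ := Submodule.exists_mem_ne_zero_of_ne_bot hW.1
    have h1 := heig ⟨w, hw⟩
    rw [h0, zero_smul, ← map_zero (ρ y)] at h1
    exact hw0 (congrArg Subtype.val (hinj ((apply_injective ρ y h1).trans (map_zero _).symm)))
  apply le_antisymm
  · rintro _ ⟨_, ⟨w, rfl⟩, rfl⟩
    exact ⟨c • θ w, by rw [map_smul, heig]⟩
  · rintro _ ⟨w, rfl⟩
    refine ⟨c⁻¹ • (φ : W →ₗ[K] V) (θ.symm w), Submodule.smul_mem _ _ ⟨_, rfl⟩, ?_⟩
    rw [map_smul, heig, θ.apply_symm_apply, inv_smul_smul₀ hc0]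

end normalizer

end Cfsg.Agent.HallHigman
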