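import Cfsg.Agent.HallHigman.Critical
import Cfsg.Agent.HallHigman.Twist
import Cfsg.Agent.Coprime.Basic
import Cfsg.Agent.Core.Frattini

/-!
Theorem B of Hall and Higman for a `p`-element acting on a `q`-group of operators.
-/

set_option autoImplicit false

namespace Cfsg.Agent.HallHigman

open Subgroup
open scoped commutatorElement

variable {G : Type*} [Group G] {p q : ℕ}

theorem sigma_mem_zpowers [hp : Fact p.Prime] {x z : G} {n : ℕ} (hord : orderOf x = p ^ n)
    (hz : z ∈ zpowers x) (hz1 : z ≠ 1) : x ^ p ^ (n - 1) ∈ zpowers z := by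
  obtain ⟨e, rfl⟩ := mem_zpowers_iff.1 hz
  obtain ⟨t, ht, hg⟩ := (Nat.dvd_prime_pow hp.out).1
    (Int.natCast_dvd_natCast.1 (Int.gcd_dvd_right e (((p ^ n : ℕ) : ℤ))))
  have htn : t < n := by
    by_contra hcon
    obtain rfl : t = n := by omega
    refine hz1 (orderOf_dvd_iff_zpow_eq_one.1 ?_)
    rw [hord, ← hg]
    exact Int.gcd_dvd_left e _
  refine mem_zpowers_iff.2 ⟨Int.gcdA e ((p ^ n : ℕ) : ℤ) * (p ^ (n - 1 - t) : ℕ), ?_⟩
  rw [← zpow_mul, ← zpow_natCast]
  refine orderOf_dvd_sub_iff_zpow_eq_zpow.1 ⟨-(Int.gcdB e ((p ^ n : ℕ) : ℤ)) * (p ^ (n - 1 - t) : ℕ), ?_⟩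
  have h6 := Int.gcd_eq_gcd_ab e ((p ^ n : ℕ) : ℤ)
  rw [hg] at h6
  have h7 : ((p ^ (n - 1) : ℕ) : ℤ) = ((p ^ t : ℕ) : ℤ) * ((p ^ (n - 1 - t) : ℕ) : ℤ) := by
    rw [← Nat.cast_mul, ← pow_add]; congr 2; omega
  rw [hord, h7, h6]
  ring

variable [Finite G]

/-- In a minimal invariant `q`-group not centralised by `σ`, the centraliser of `σ` is central. -/
theorem central_of_minimal [hp : Fact p.Prime] [hq : Fact q.Prime] (hpq : p ≠ q) {Q : Subgroup G}
    (hQ : IsPGroup q Q) {x σ : G} (hσx : σ ∈ zpowers x) (hxQ : x ∈ normalizer (Q : Set G)) {m : ℕ}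
    (hσo : σ ^ p ^ m = 1) (hns : ¬ ∀ a ∈ Q, σ * a = a * σ)
    (hmin : ∀ Q' : Subgroup G, Q' ≤ Q → x ∈ normalizer (Q' : Set G) →
      (¬ ∀ a ∈ Q', σ * a = a * σ) → Q' = Q) {d : G} (hd : d ∈ Q) (hdσ : σ * d = d * σ) :
    ∀ a ∈ Q, d * a = a * d := by
  haveI := hQ.isNilpotent
  set D := Q ⊓ centralizer ({σ} : Set G) with hD
  have hxσ : Commute x σ := by
    obtain ⟨i, rfl⟩ := mem_zpowers_iff.1 hσx
    exact (Commute.refl x).zpow_right i
  have hxC : x ∈ normalizer (centralizer ({σ} : Set G) : Set G) :=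
    le_normalizer (mem_centralizer_singleton_iff.2 hxσ.eq)
  have hxD : x ∈ normalizer (D : Set G) :=
    (Coprime.le_normalizer_inf (A := zpowers x) (zpowers_le.2 hxQ) (zpowers_le.2 hxC)) (mem_zpowers x)
  have hσQ : σ ∈ normalizer (Q : Set G) := zpowers_le.2 hxQ hσx
  -- `D` is normal in `Q`
  set F := (frattini Q).map Q.subtype with hF
  have hDnorm : Q ≤ normalizer (D : Set G) := by
    set M := D ⊔ F with hM
    have hMQ : M ≤ Q := sup_le inf_le_left (map_subtype_le _)
    have hQM : Q ≤ normalizer (M : Set G) := by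
      rw [le_normalizer_iff_commutator_le_right]
      refine le_trans (commutator_mono le_rfl hMQ) (le_trans ?_ le_sup_right)
      have e : ⁅Q, Q⁆ = Subgroup.map Q.subtype ⁅(⊤ : Subgroup Q), (⊤ : Subgroup Q)⁆ := by
        rw [map_commutator, ← MonoidHom.range_eq_map, Q.range_subtype]
      rw [e, hF]
      exact map_mono ((_root_.commutator_def Q).ge.trans Core.commutator_le_frattini)
    have hxM : x ∈ normalizer (M : Set G) := by
      have h1 : normalizer (Q : Set G) ≤ normalizer (F : Set G) := by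
        intro a ha
        apply Coprime.mem_normalizer_of_conj_smul_eq
        have h : (frattini Q).map (Q.normalizerMonoidHom ⟨a, ha⟩).toMonoidHom = frattini Q :=
          characteristic_iff_map_eq.mp inferInstance _
        conv_rhs => rw [hF, ← h]
        rw [Coprime.conj_smul_eq_map, Subgroup.map_map, Subgroup.map_map]
        rfl
      rw [mem_normalizer_iff_map_conj_eq, hM, Subgroup.map_sup, mem_normalizer_iff_map_conj_eq.1 hxD,
        mem_normalizer_iff_map_conj_eq.1 (h1 hxQ)]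
    by_cases hcen : ∀ a ∈ M, σ * a = a * σ
    · have hle : M ≤ D := le_inf hMQ fun a ha => mem_centralizer_singleton_iff.2 (hcen a ha).symm
      rwa [show M = D from le_antisymm hle le_sup_left] at hQM
    · exfalso
      have hMQ' := hmin M hMQ hxM hcen
      have h1 : D.subgroupOf Q ⊔ frattini Q = ⊤ := by
        apply map_injective Q.subtype_injective
        rw [Subgroup.map_sup, map_subgroupOf_eq_of_le inf_le_left, ← MonoidHom.range_eq_map, Q.range_subtype]
        exact hMQ'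
      have h2 : Q ≤ D := subgroupOf_eq_top.1 (Core.eq_top_of_sup_frattini le_rfl h1)
      exact hns fun a ha => (mem_centralizer_singleton_iff.1 (h2 ha).2).symm
  -- `[Q, σ] = Q`
  set A := zpowers σ with hA
  have hAQ : A ≤ normalizer (Q : Set G) := zpowers_le.2 hσQ
  have hCQ : ⁅Q, A⁆ = Q := by
    have hle : ⁅Q, A⁆ ≤ Q := le_normalizer_iff_commutator_le_left.1 hAQ
    refine hmin _ hle ?_ fun hall => hns fun a ha => ?_
    · have hxA : x ∈ normalizer (A : Set G) := by
        rw [mem_normalizer_iff_map_conj_eq, hA, MonoidHom.map_zpowers]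
        congr 1
        simp [hxσ.eq]
      rw [mem_normalizer_iff_map_conj_eq, map_commutator, mem_normalizer_iff_map_conj_eq.1 hxQ,
        mem_normalizer_iff_map_conj_eq.1 hxA]
    · set c := ⁅σ, a⁆ with hc
      have hcQA : c ∈ ⁅Q, A⁆ := by
        rw [hc, ← commutatorElement_inv a σ]
        exact inv_mem (commutator_mem_commutator ha (mem_zpowers σ))
      have hcomm : Commute σ c := hall c hcQA
      have hj : ∀ j : ℕ, σ ^ j * a * (σ ^ j)⁻¹ = c ^ j * a := by
        intro j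
        induction j with
        | zero => simp
        | succ j ih =>
          calc σ ^ (j + 1) * a * (σ ^ (j + 1))⁻¹ = σ * (σ ^ j * a * (σ ^ j)⁻¹) * σ⁻¹ := by
                rw [pow_succ']; group
            _ = σ * (c ^ j * a) * σ⁻¹ := by rw [ih]
            _ = σ * c ^ j * σ⁻¹ * (⁅σ, a⁆ * a) := by rw [commutatorElement_def]; group
            _ = c ^ j * (c * a) := by rw [(hcomm.pow_right j).eq, mul_inv_cancel_right, ← hc]
            _ = c ^ (j + 1) * a := by rw [pow_succ, mul_assoc]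
      have h1 := hj (p ^ m)
      rw [hσo, one_mul, inv_one, mul_one, eq_comm, mul_eq_right] at h1
      obtain ⟨i, hi⟩ := IsPGroup.iff_orderOf.1 hQ ⟨c, hle hcQA⟩
      rw [orderOf_mk] at hi
      have h2 : orderOf c = 1 := Nat.eq_one_of_dvd_coprimes
        (((Nat.coprime_primes hp.out hq.out).2 hpq).pow m i) (orderOf_dvd_of_pow_eq_one h1) hi.dvd
      exact commutatorElement_eq_one_iff_mul_comm.1 (orderOf_eq_one_iff.1 h2)
  -- three subgroups
  have hzero : ⁅⁅A, Q⁆, D⁆ = ⊥ := by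
    refine commutator_commutator_eq_bot_of_rotate ?_ ?_
    · rw [commutator_eq_bot_iff_le_centralizer]
      have h1 : ⁅Q, D⁆ ≤ D := le_normalizer_iff_commutator_le_right.1 hDnorm
      refine h1.trans fun a ha => mem_centralizer_iff.2 fun b hb => ?_
      obtain ⟨i, rfl⟩ := mem_zpowers_iff.1 hb
      exact ((show Commute σ a from (mem_centralizer_singleton_iff.1 ha.2).symm).zpow_left i).eq
    · rw [show ⁅D, A⁆ = ⊥ from by
        rw [commutator_eq_bot_iff_le_centralizer]
        refine fun a ha => mem_centralizer_iff.2 fun b hb => ?_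
        obtain ⟨i, rfl⟩ := mem_zpowers_iff.1 hb
        exact ((show Commute σ a from (mem_centralizer_singleton_iff.1 ha.2).symm).zpow_left i).eq,
        commutator_bot_left]
  rw [commutator_comm A Q, hCQ, commutator_eq_bot_iff_le_centralizer] at hzero
  exact fun a ha => mem_centralizer_iff.1 (hzero ha) d ⟨hd, mem_centralizer_singleton_iff.2 hdσ.symm⟩

variable {K : Type*} [Field K] [IsAlgClosed K] {V : Type*} [AddCommGroup V] [Module K V]
  [FiniteDimensional K V]

/-- The reduction to the critical case, for a minimal operator group. -/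
theorem index_bound_minimal [hp : Fact p.Prime] [CharP K p] [hq : Fact q.Prime] (hpq : p ≠ q)
    (ρ : G →* Module.End K V) (hinj : Function.Injective ρ) {Q : Subgroup G} (hQ : IsPGroup q Q)
    {x : G} (hxQ : x ∈ normalizer (Q : Set G)) {n : ℕ} (hn : 1 ≤ n) (hord : orderOf x = p ^ n)
    (hns : ¬ ∀ a ∈ Q, x ^ p ^ (n - 1) * a = a * x ^ p ^ (n - 1))
    (hmin : ∀ Q' : Subgroup G, Q' ≤ Q → x ∈ normalizer (Q' : Set G) →
      (¬ ∀ a ∈ Q', x ^ p ^ (n - 1) * a = a * x ^ p ^ (n - 1)) → Q' = Q)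
    {s : ℕ} (hs : (ρ x - 1) ^ s = 0) :
    p ^ n ≤ s ∨ ∃ n₀ b : ℕ, 1 ≤ n₀ ∧ n₀ ≤ n ∧ 1 ≤ b ∧ p ^ n₀ - 1 = q ^ b ∧ ¬ IsMulCommutative Q ∧
      p ^ (n - n₀) * (p ^ n₀ - 1) ≤ s := by
  classical
  set σ := x ^ p ^ (n - 1) with hσ
  have hσx : σ ∈ zpowers x := pow_mem (mem_zpowers x) _
  have hσN : σ ∈ normalizer (Q : Set G) := pow_mem hxQ _
  obtain ⟨a₀, ha₀, hne⟩ := not_forall₂.1 hns
  let bq : Q := ⟨σ * a₀ * σ⁻¹ * a₀⁻¹, mul_mem ((mem_normalizer_iff.1 hσN a₀).1 ha₀) (inv_mem ha₀)⟩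
  have hbq : (bq : G) ≠ 1 := fun h => hne (mul_inv_eq_iff_eq_mul.1 (mul_inv_eq_one.1 h))
  haveI : Nontrivial V := by
    by_contra hV
    rw [not_nontrivial_iff_subsingleton] at hV
    exact hbq (hinj (LinearMap.ext fun v => Subsingleton.elim _ _))
  set τ := ρ.comp Q.subtype with hτ
  haveI := Fintype.ofFinite Q
  have hQcard : (Fintype.card Q : K) ≠ 0 := by
    obtain ⟨j, hj⟩ := IsPGroup.iff_card.1 hQ
    rw [← Nat.card_eq_fintype_card, hj, Nat.cast_pow]
    refine pow_ne_zero j fun h0 => hpq ?_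
    exact (Nat.prime_dvd_prime_iff_eq hp.out hq.out).1 ((CharP.cast_eq_zero_iff K p q).1 h0)
  obtain ⟨W, hW, w₁, hw₁, hw₁ne⟩ := exists_simple_nontrivial (τ := τ) hQcard (b := bq)
    (fun h => hbq (hinj (h.trans (map_one ρ).symm)))
  -- the stabiliser of the type of `W`
  have hmapmul : ∀ (g g' : G) (U : Submodule K V), U.map (ρ (g * g')) = (U.map (ρ g')).map (ρ g) :=
    fun g g' U => by rw [map_mul, Module.End.mul_eq_comp, Submodule.map_comp]
  have hmap1 : ∀ U : Submodule K V, U.map (ρ 1) = U := fun U => by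
    rw [map_one, Module.End.one_eq_id, Submodule.map_id]
  let S : Subgroup (normalizer (Q : Set G)) :=
    { carrier := {g | Isom τ W (W.map (ρ (g : G)))}
      mul_mem' := fun {g g'} hg hg' => by
        show Isom τ W (W.map (ρ ((g : G) * g')))
        rw [hmapmul]
        exact hg.trans (isom_map_of_mem ρ g.2 hg')
      one_mem' := by
        show Isom τ W (W.map (ρ ((1 : normalizer (Q : Set G)) : G)))
        rw [OneMemClass.coe_one, hmap1]
        exact Isom.refl W
      inv_mem' := fun {g} hg => by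
        show Isom τ W (W.map (ρ ((g⁻¹ : normalizer (Q : Set G)) : G)))
        have h1 := isom_map_of_mem ρ (inv_mem g.2) hg
        rw [← hmapmul, inv_mul_cancel, hmap1] at h1
        exact h1.symm (simple_map_of_mem ρ (inv_mem g.2) hW).2.1 }
  set xn : normalizer (Q : Set G) := ⟨x, hxQ⟩ with hxn
  have hxnord : orderOf xn = p ^ n := by rw [← hord, ← orderOf_coe xn]
  have hex : ∃ i, xn ^ p ^ i ∈ S := ⟨n, by rw [← hxnord, pow_orderOf_eq_one]; exact one_mem S⟩
  set i := Nat.find hex with hi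
  have hin : i ≤ n := Nat.find_min' hex (by rw [← hxnord, pow_orderOf_eq_one]; exact one_mem S)
  have hpi : 0 < p ^ i := pow_pos hp.out.pos i
  have hnotS : ∀ d, 0 < d → d < p ^ i → xn ^ d ∉ S := by
    intro d hd hdi hmem
    obtain ⟨t, ht, hg⟩ := (Nat.dvd_prime_pow hp.out).1 (Nat.gcd_dvd_right d (p ^ n))
    have hti : t < i := by
      by_contra hcon
      have h3 := Nat.le_of_dvd hd (hg ▸ Nat.gcd_dvd_left d (p ^ n))
      have h4 : p ^ i ≤ p ^ t := Nat.pow_le_pow_right hp.out.pos (by omega)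
      omega
    refine Nat.find_min hex hti ?_
    have h5 : xn ^ p ^ t = (xn ^ d) ^ (Nat.gcdA d (p ^ n)) := by
      rw [← zpow_natCast xn d, ← zpow_mul, ← zpow_natCast]
      refine orderOf_dvd_sub_iff_zpow_eq_zpow.1 ⟨Nat.gcdB d (p ^ n), ?_⟩
      have h6 := Nat.gcd_eq_gcd_ab d (p ^ n)
      rw [hg] at h6
      rw [hxnord, h6]
      ring
    rw [h5]
    exact zpow_mem hmem _
  set y := x ^ p ^ i with hy
  have hyN : y ∈ normalizer (Q : Set G) := pow_mem hxQ _
  obtain ⟨W', hWW', hyW'⟩ := exists_invariant_copy ρ hyN hW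
    (show Isom τ W (W.map (ρ y)) by
      have h := Nat.find_spec hex
      rw [← hi] at h
      simpa [S, hy, hxn] using h)
  have hW' : IsSimpleSub τ W' := hWW'.simple hW
  have hxr : ∀ r : ℕ, x ^ r ∈ normalizer (Q : Set G) := fun r => pow_mem hxQ r
  have hnoniso : ∀ d, 0 < d → d < p ^ i → ¬ Isom τ W' (W'.map (ρ (x ^ d))) := fun d hd hdi h => by
    refine hnotS d hd hdi ?_
    show Isom τ W (W.map (ρ (((xn ^ d : normalizer (Q : Set G))) : G)))
    rw [SubgroupClass.coe_pow, hxn]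
    exact hWW'.trans (h.trans (isom_map_of_mem ρ (hxr d) (hWW'.symm hW.2.1)))
  set U := ρ x - 1 with hU
  haveI : CharP (Module.End K V) p :=
    charP_of_injective_algebraMap (algebraMap K (Module.End K V)).injective p
  -- independence of the translates
  have hindep : ∀ w ∈ W', w ≠ 0 → (U ^ (p ^ i - 1)) w ≠ 0 := by
    intro w hw hw0 hzero
    set e := p ^ i - 1 with he
    have hexp : U ^ e = ∑ r ∈ Finset.range (e + 1), ρ (x ^ r) * (-1) ^ (e - r) * (e.choose r : Module.End K V) := by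
      rw [hU, sub_eq_add_neg, (Commute.neg_one_right _).add_pow]
      simp only [map_pow]
    rw [hexp, Finset.sum_range_succ, Nat.sub_self, pow_zero, mul_one, Nat.choose_self, Nat.cast_one, mul_one,
      LinearMap.add_apply, add_eq_zero_iff_eq_neg, LinearMap.sum_apply] at hzero
    set others := (Finset.range e).sup fun r => W'.map (ρ (x ^ r)) with hothers
    have hin' : ρ (x ^ e) w ∈ others := by
      rw [← neg_neg (ρ (x ^ e) w), ← hzero]
      refine others.neg_mem (others.sum_mem fun r hr => ?_)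
      refine (Finset.le_sup (f := fun r => W'.map (ρ (x ^ r))) hr) ?_
      refine ⟨((-1 : Module.End K V) ^ (e - r) * (e.choose r : Module.End K V)) w, ?_, by
        simp [mul_assoc, Module.End.mul_apply]⟩
      rw [Module.End.mul_apply, Module.End.natCast_apply]
      rcases neg_one_pow_eq_or (Module.End K V) (e - r) with h1 | h1
      · rw [h1, Module.End.one_apply]; exact W'.smul_of_tower_mem _ hw
      · rw [h1, LinearMap.neg_apply, Module.End.one_apply]; exact W'.neg_mem (W'.smul_of_tower_mem _ hw)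
    have hsimp := simple_map_of_mem ρ (hxr e) hW'
    have hOinv : Inv τ others := by
      intro g v hv
      have hle' : others ≤ others.comap (τ g) := Finset.sup_le fun r hr u hu =>
        (Finset.le_sup (f := fun r => W'.map (ρ (x ^ r))) hr) ((simple_map_of_mem ρ (hxr r) hW').2.1 g u hu)
      exact hle' hv
    have hle : W'.map (ρ (x ^ e)) ≤ others := by
      have h1 := hsimp.2.2 (W'.map (ρ (x ^ e)) ⊓ others) inf_le_left
        (fun g v hv => ⟨hsimp.2.1 g v hv.1, hOinv g v hv.2⟩)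
      refine (h1.resolve_left fun hb => ?_).ge.trans inf_le_right
      have h2 : ρ (x ^ e) w ∈ W'.map (ρ (x ^ e)) ⊓ others := ⟨Submodule.mem_map_of_mem hw, hin'⟩
      rw [hb, Submodule.mem_bot] at h2
      exact hw0 (apply_injective ρ _ (h2.trans (map_zero _).symm))
    obtain ⟨r, hr, hiso⟩ := exists_isom_of_le_iSup (fun r => W'.map (ρ (x ^ r))) hsimp (Finset.range e)
      (fun r _ => simple_map_of_mem ρ (hxr r) hW') hle
    rw [Finset.mem_range] at hr
    refine hnoniso (e - r) (by omega) (by omega) ?_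
    have h3 := isom_map_of_mem ρ (inv_mem (hxr r)) hiso
    rw [← hmapmul, ← hmapmul, inv_mul_cancel, hmap1,
      show (x ^ r)⁻¹ * x ^ e = x ^ (e - r) by
        rw [inv_mul_eq_iff_eq_mul, ← pow_add, show r + (e - r) = e by omega]] at h3
    exact h3.symm (simple_map_of_mem ρ (hxr (e - r)) hW').2.1
  obtain ⟨w₂, hw₂, hw₂0⟩ := Submodule.exists_mem_ne_zero_of_ne_bot hW'.1
  have hsU : ∀ k, s ≤ k → ∀ v, (U ^ k) v = 0 := fun k hk v => by
    rw [pow_eq_zero_of_le hk hs, LinearMap.zero_apply]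
  rcases eq_or_lt_of_le hin with hin' | hin'
  · left
    by_contra hcon
    exact hindep w₂ hw₂ hw₂0 (hsU _ (by rw [hin']; omega) w₂)
  -- the critical case on `W'`
  have hUy : U ^ p ^ i = ρ y - 1 := by
    rw [hU, sub_pow_char_pow_of_commute p i (Commute.one_right _), one_pow, hy, map_pow]
  let Stab : Subgroup G :=
    { carrier := {g | W'.map (ρ g) = W'}
      mul_mem' := fun {g g'} hg hg' => by
        show W'.map (ρ (g * g')) = W'
        rw [hmapmul, show W'.map (ρ g') = W' from hg']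
        exact hg
      one_mem' := hmap1 W'
      inv_mem' := fun {g} hg => by
        show W'.map (ρ g⁻¹) = W'
        conv_lhs => rw [← show W'.map (ρ g) = W' from hg]
        rw [← hmapmul, inv_mul_cancel, hmap1] }
  have hQStab : Q ≤ Stab := fun g hg => by
    refine le_antisymm ?_ fun v hv => ?_
    · rintro _ ⟨v, hv, rfl⟩
      exact hW'.2.1 ⟨g, hg⟩ v hv
    · exact ⟨ρ g⁻¹ v, hW'.2.1 ⟨g⁻¹, inv_mem hg⟩ v hv, apply_inv_apply ρ g v⟩
  set N1 := Q ⊔ zpowers y with hN1
  have hN1S : N1 ≤ Stab := sup_le hQStab (zpowers_le.2 hyW')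
  have hN1Q : N1 ≤ normalizer (Q : Set G) := sup_le le_normalizer (zpowers_le.2 hyN)
  let φ : N1 →* Module.End K W' :=
    { toFun := fun g => (ρ (g : G)).restrict fun v hv => by
        have h : W'.map (ρ (g : G)) = W' := hN1S g.2
        exact h.le (Submodule.mem_map_of_mem hv)
      map_one' := LinearMap.ext fun v => Subtype.ext (by simp)
      map_mul' := fun g g' => LinearMap.ext fun v => Subtype.ext (by simp) }
  set ρ' := QuotientGroup.lift φ.ker φ le_rfl with hρ'
  have hρ'inj : Function.Injective ρ' := by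
    intro u v huv
    obtain ⟨u, rfl⟩ := QuotientGroup.mk'_surjective φ.ker u
    obtain ⟨v, rfl⟩ := QuotientGroup.mk'_surjective φ.ker v
    replace huv : φ u = φ v := huv
    refine QuotientGroup.eq.2 (MonoidHom.mem_ker.2 ?_)
    rw [map_mul, ← huv, ← map_mul, inv_mul_cancel, map_one]
  set π := QuotientGroup.mk' φ.ker with hπ
  haveI : (Q.subgroupOf N1).Normal := normal_subgroupOf_of_le_normalizer hN1Q
  set Q' := (Q.subgroupOf N1).map π with hQ'
  haveI hQ'n : Q'.Normal := Subgroup.Normal.map inferInstance π (QuotientGroup.mk'_surjective _)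
  set y1 : N1 := ⟨y, mem_sup_right (mem_zpowers y)⟩ with hy1
  set x' := π y1 with hx'
  have hQN : ∀ {a : G}, a ∈ Q → a ∈ N1 := fun h => mem_sup_left h
  have hQ'p : IsPGroup q Q' := (hQ.comap_subtype).map π
  have hσy : ∃ e, σ = y ^ e ∧ e = p ^ (n - 1 - i) := ⟨_, by
    rw [hy, ← pow_mul, ← pow_add, show i + (n - 1 - i) = n - 1 by omega], rfl⟩
  obtain ⟨eσ, hσe, heσ⟩ := hσy
  have hord' : orderOf x' = p ^ (n - i) := by
    obtain ⟨m, hm⟩ : ∃ m, n - i = m + 1 := ⟨n - i - 1, by omega⟩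
    rw [hm]
    refine orderOf_eq_prime_pow (fun h1 => ?_) ?_
    · rw [hx', ← map_pow, hπ, QuotientGroup.mk'_apply, QuotientGroup.eq_one_iff, MonoidHom.mem_ker] at h1
      have h1' : φ (y1 ^ eσ) = 1 := by rwa [heσ, show n - 1 - i = m by omega]
      have h2 : φ (y1 ^ eσ * ⟨a₀, hQN ha₀⟩ * (y1 ^ eσ)⁻¹ * ⟨a₀, hQN ha₀⟩⁻¹) = 1 := by
        have h3 : φ (y1 ^ eσ)⁻¹ = 1 := inv_mem (show y1 ^ eσ ∈ φ.ker from h1')
        rw [map_mul, map_mul, map_mul, h1', h3, one_mul, mul_one, ← map_mul, mul_inv_cancel, map_one]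
      obtain ⟨f, hf⟩ := hWW'
      refine hw₁ne ?_
      have h4 : (f ⟨τ bq w₁, hW.2.1 bq w₁ hw₁⟩ : V) = τ bq (f ⟨w₁, hw₁⟩) := hf bq ⟨w₁, hw₁⟩ _ rfl
      have h5 : τ bq (f ⟨w₁, hw₁⟩ : V) = (f ⟨w₁, hw₁⟩ : V) := by
        have h6 := congrArg Subtype.val (LinearMap.congr_fun h2 (f ⟨w₁, hw₁⟩))
        show ρ (σ * a₀ * σ⁻¹ * a₀⁻¹) _ = _
        rw [hσe]
        exact h6
      exact congrArg Subtype.val (f.injective (Subtype.ext (h4.trans h5)))
    · rw [hx', ← map_pow, show y1 ^ p ^ (m + 1) = 1 from Subtype.ext (by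
        show (x ^ p ^ i) ^ p ^ (m + 1) = (1 : G)
        rw [← pow_mul, ← pow_add, show i + (m + 1) = n by omega, ← hord, pow_orderOf_eq_one]), map_one]
  have hsup : (Q.subgroupOf N1 ⊔ zpowers y1) = ⊤ := by
    apply map_injective N1.subtype_injective
    rw [Subgroup.map_sup, map_subgroupOf_eq_of_le le_sup_left, MonoidHom.map_zpowers, ← MonoidHom.range_eq_map,
      N1.range_subtype]
    rfl
  have hgen : Q' ⊔ zpowers x' = ⊤ := by
    rw [hQ', hx', ← MonoidHom.map_zpowers, ← Subgroup.map_sup, hsup,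
      Subgroup.map_top_of_surjective π (QuotientGroup.mk'_surjective _)]
  haveI : Nontrivial W' := Submodule.nontrivial_iff_ne_bot.2 hW'.1
  have hirr : Irred (ρ'.comp Q'.subtype) := by
    intro U' hU'
    rcases hW'.2.2 (U'.map W'.subtype) (Submodule.map_subtype_le _ _) (by
      rintro g _ ⟨v, hv, rfl⟩
      exact ⟨φ ⟨g, hQN g.2⟩ v, hU' ⟨π ⟨g, hQN g.2⟩, mem_map_of_mem π (mem_subgroupOf.2 g.2)⟩ v hv, rfl⟩) with h | h
    · exact Or.inl (((Submodule.map_injective_of_injective W'.injective_subtype).eq_iff' (Submodule.map_bot _)).1 h)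
    · refine Or.inr (eq_top_iff.2 fun v _ => ?_)
      obtain ⟨v', hv', e⟩ := h.ge v.2
      exact (Subtype.ext e : v' = v) ▸ hv'
  have hC : ∀ z' ∈ zpowers x', z' ≠ 1 →
      centralizer ({z'} : Set (N1 ⧸ φ.ker)) = zpowers x' ⊔ center _ := by
    intro z' hz' hz'1
    refine le_antisymm ?_ (sup_le ?_ ?_)
    · intro g' hg'
      obtain ⟨q', hq', u, hu, rfl⟩ := mem_sup_of_normal_left.1 (hgen.ge (mem_top g'))
      rw [show q' * u = u * (u⁻¹ * (q' * u)) by group]
      refine mul_mem_sup hu ?_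
      have hzu : Commute z' u := by
        obtain ⟨e, rfl⟩ := mem_zpowers_iff.1 hz'
        obtain ⟨e', rfl⟩ := mem_zpowers_iff.1 hu
        exact (Commute.refl x').zpow_zpow e e'
      have hzq : Commute z' q' := by
        have h1 : Commute z' (q' * u) := (mem_centralizer_singleton_iff.1 hg').symm
        have h2 := h1.mul_right hzu.inv_right
        rwa [mul_inv_cancel_right] at h2
      obtain ⟨a, ha, rfl⟩ := hq'
      obtain ⟨e, he⟩ := mem_zpowers_iff.1 hz'
      have hzdef : π (y1 ^ e) = z' := by rw [map_zpow, ← hx', he]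
      set z := y1 ^ e with hz
      set A := zpowers (z : G) with hA
      set Nk := (φ.ker ⊓ Q.subgroupOf N1).map N1.subtype with hNk
      have hzy : (z : G) ∈ zpowers y := by
        rw [hz, SubgroupClass.coe_zpow, hy1]; exact zpow_mem (mem_zpowers y) e
      have hzx : (z : G) ∈ zpowers x := zpowers_le.2 (pow_mem (mem_zpowers x) _) hzy
      have hz1 : (z : G) ≠ 1 := fun h => hz'1 (by
        rw [← hzdef, show z = 1 from Subtype.ext h, map_one])
      have hAN : A ≤ normalizer (Nk : Set G) := by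
        refine zpowers_le.2 ?_
        have h1 : (z : N1) ∈ normalizer ((φ.ker ⊓ Q.subgroupOf N1 : Subgroup N1) : Set N1) := by
          rw [normalizer_eq_top_iff.2 inferInstance]; exact mem_top z
        exact le_normalizer_map N1.subtype ⟨z, h1, rfl⟩
      have hcop : (Nat.card A).Coprime (Nat.card Nk) := by
        obtain ⟨j, hj⟩ := IsPGroup.iff_card.1 (hQ.to_le (show Nk ≤ Q by
          rintro _ ⟨b, hb, rfl⟩; exact hb.2))
        obtain ⟨l, -, hl⟩ := (Nat.dvd_prime_pow hp.out).1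
          (hord ▸ orderOf_dvd_of_mem_zpowers hzx)
        rw [hA, Nat.card_zpowers, hl, hj]
        exact ((Nat.coprime_primes hp.out hq.out).2 hpq).pow l j
      have hfix : ∀ c ∈ A, (a : G)⁻¹ * (c * a * c⁻¹) ∈ Nk := by
        intro c hc
        obtain ⟨j, rfl⟩ := mem_zpowers_iff.1 hc
        refine ⟨a⁻¹ * (z ^ j * a * (z ^ j)⁻¹), mem_inf.2 ⟨?_, ?_⟩, by simp⟩
        · rw [← QuotientGroup.eq_one_iff, ← QuotientGroup.mk'_apply, ← hπ, map_mul,
            map_mul, map_mul, map_inv, map_inv, map_zpow, hzdef, (hzq.zpow_left j).eq, mul_inv_cancel_right,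
            inv_mul_cancel]
        · exact mul_mem (inv_mem ha) ((inferInstance : (Q.subgroupOf N1).Normal).conj_mem _ ha _)
      obtain ⟨nn, hnn, hc⟩ := Coprime.exists_fixed_mem_leftCoset hAN hcop (Or.inl inferInstance) hfix
      obtain ⟨b, hb, rfl⟩ := hnn
      have hd : (a : G) * b ∈ Q := mul_mem ha hb.2
      have hdσ : σ * ((a : G) * b) = (a : G) * b * σ :=
        mem_centralizer_iff.1 hc σ (sigma_mem_zpowers hord hzx hz1)
      have hcen := central_of_minimal hpq hQ hσx hxQ (m := 1) (by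
        rw [hσ, ← pow_mul, ← pow_add, show n - 1 + 1 = n by omega, ← hord, pow_orderOf_eq_one]) hns hmin hd hdσ
      have hqc : ∀ k ∈ Q', π a * k = k * π a := by
        rintro _ ⟨k, hk, rfl⟩
        have hb1 : π b = 1 := (QuotientGroup.eq_one_iff b).2 hb.1
        have h1 : π (a * b) = π a := by rw [map_mul, hb1, mul_one]
        rw [← h1, ← map_mul, ← map_mul, show a * b * k = k * (a * b) from Subtype.ext (hcen _ hk)]
      obtain ⟨c, hcc⟩ := scalar_of_commute hirr (ρ' (π a)) (fun k => by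
        show ρ' (π a) * ρ' k = ρ' k * ρ' (π a)
        rw [← map_mul, ← map_mul, hqc k k.2])
      have hcenter : π a ∈ center (N1 ⧸ φ.ker) := mem_center_iff.2 fun k => hρ'inj (by
        rw [map_mul, map_mul, hcc, mul_smul_comm, smul_mul_assoc, mul_one, one_mul])
      rw [show u⁻¹ * (π a * u) = π a by rw [← mem_center_iff.1 hcenter u, inv_mul_cancel_left]]
      exact hcenter
    · refine fun u hu => mem_centralizer_singleton_iff.2 ?_
      obtain ⟨e, rfl⟩ := mem_zpowers_iff.1 hz'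
      obtain ⟨e', rfl⟩ := mem_zpowers_iff.1 hu
      exact ((Commute.refl x').zpow_zpow e' e).eq
    · exact fun u hu => mem_centralizer_singleton_iff.2 (mem_center_iff.1 hu z').symm
  haveI : CharP (Module.End K W') p :=
    charP_of_injective_algebraMap (algebraMap K (Module.End K W')).injective p
  set U' := ρ' x' - 1 with hU'
  have hU'pow : ∀ k, ∀ v : W', (((U' ^ k) v : W') : V) = ((ρ y - 1) ^ k) (v : V) := by
    intro k
    induction k with
    | zero => intro v; rfl
    | succ k ih =>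
      intro v
      rw [pow_succ, pow_succ, Module.End.mul_apply, Module.End.mul_apply, ih]
      rfl
  have hex' : ∃ k, U' ^ k = 0 := ⟨p ^ (n - i), by
    rw [hU', sub_pow_char_pow_of_commute p _ (Commute.one_right _), ← map_pow, ← hord', pow_orderOf_eq_one,
      map_one, one_pow, sub_self]⟩
  obtain ⟨h1, -, h3⟩ := critical (K := K) hpq Q' hQ'p hord' hgen hC ρ' hρ'inj hirr
    (Nat.find_spec hex') (fun k hk => Nat.find_min hex' hk)
  set s' := Nat.find hex' with hs'
  have hs'0 : s' ≠ 0 := fun h0 => by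
    have h4 := Nat.find_spec hex'
    rw [← hs', h0, pow_zero] at h4
    exact one_ne_zero h4
  obtain ⟨v, hv⟩ : ∃ v, (U' ^ (s' - 1)) v ≠ 0 := by
    by_contra hall
    push Not at hall
    exact Nat.find_min hex' (show s' - 1 < s' by omega) (LinearMap.ext hall)
  have hbound : p ^ i * s' ≤ s := by
    by_contra hlt
    refine hindep _ (Subtype.coe_prop ((U' ^ (s' - 1)) v)) (fun h => hv (Subtype.ext h)) ?_
    rw [hU'pow, ← hUy, ← pow_mul, ← Module.End.mul_apply, ← pow_add]
    refine hsU _ ?_ _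
    obtain ⟨t, ht⟩ : ∃ t, s' = t + 1 := ⟨s' - 1, by omega⟩
    rw [ht, Nat.mul_succ] at hlt
    rw [ht, Nat.add_sub_cancel]
    omega
  by_cases hfull : p ^ (n - i) ≤ s'
  · left
    calc p ^ n = p ^ i * p ^ (n - i) := by rw [← pow_add]; congr 1; omega
      _ ≤ p ^ i * s' := Nat.mul_le_mul_left _ hfull
      _ ≤ s := hbound
  · right
    have heq : s' = p ^ (n - i) - 1 := by omega
    obtain ⟨⟨b, hb⟩, hnc⟩ := h3 heq
    refine ⟨n - i, b, by omega, by omega, Nat.pos_of_ne_zero fun hb0 => ?_, hb, fun hab => hnc ?_, ?_⟩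
    · rw [hb0, pow_zero] at hb
      have h4 := Nat.find_spec hex'
      rw [← hs', heq, hb, pow_one, hU', sub_eq_zero, ← map_one ρ'] at h4
      have h5 := hρ'inj h4
      rw [h5, orderOf_one] at hord'
      omega
    · haveI := hab
      rw [hQ']
      infer_instance
    · rw [show n - (n - i) = i by omega, ← heq]
      exact hbound

/-- Theorem B, for a `p`-element normalising a `q`-group of operators. -/
theorem index_bound [hp : Fact p.Prime] [CharP K p] [hq : Fact q.Prime] (hpq : p ≠ q)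
    (ρ : G →* Module.End K V) (hinj : Function.Injective ρ) {Q : Subgroup G} (hQ : IsPGroup q Q)
    {x : G} (hxQ : x ∈ normalizer (Q : Set G)) {n : ℕ} (hn : 1 ≤ n) (hord : orderOf x = p ^ n)
    (hns : ¬ ∀ a ∈ Q, x ^ p ^ (n - 1) * a = a * x ^ p ^ (n - 1)) {s : ℕ} (hs : (ρ x - 1) ^ s = 0) :
    p ^ n ≤ s ∨ ∃ n₀ b : ℕ, 1 ≤ n₀ ∧ n₀ ≤ n ∧ 1 ≤ b ∧ p ^ n₀ - 1 = q ^ b ∧ ¬ IsMulCommutative Q ∧
      p ^ (n - n₀) * (p ^ n₀ - 1) ≤ s := by
  obtain ⟨Q₀, hmin⟩ := (Set.toFinite {Q' : Subgroup G | Q' ≤ Q ∧ x ∈ normalizer (Q' : Set G) ∧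
    ¬ ∀ a ∈ Q', x ^ p ^ (n - 1) * a = a * x ^ p ^ (n - 1)}).exists_minimal ⟨Q, le_rfl, hxQ, hns⟩
  obtain ⟨hle, hx₀, hns₀⟩ := hmin.1
  rcases index_bound_minimal hpq ρ hinj (hQ.to_le hle) hx₀ hn hord hns₀
    (fun Q' h1 h2 h3 => le_antisymm h1 (hmin.2 ⟨h1.trans hle, h2, h3⟩ h1)) hs with h | ⟨n₀, b, h1, h2, h3, h4, h5, h6⟩
  · exact Or.inl h
  · exact Or.inr ⟨n₀, b, h1, h2, h3, h4, fun hab => h5
      (IsMulCommutative.of_setLike_mul_comm fun _ ha _ hb => setLike_mul_comm (s := Q) (hle ha) (hle hb)), h6⟩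

end Cfsg.Agent.HallHigman
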