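import Mathlib

/-!
A nilpotent operator `U` with `U ^ h = 0` all of whose commutant consists of scalars plus norms
`∑ U ^ i g U ^ (h - 1 - i)` has index `h` or is a single Jordan block of size `h - 1`.
-/

set_option autoImplicit false

namespace Cfsg.Agent.HallHigman

variable {K V : Type*} [Field K] [AddCommGroup V] [Module K V]

/-- The norm `∑ U ^ i g U ^ (h - 1 - i)`. -/
def jnorm (U : Module.End K V) (h : ℕ) (g : Module.End K V) : Module.End K V :=
  ∑ i ∈ Finset.range h, U ^ i * g * U ^ (h - 1 - i)

theorem finrank_ker_pow_le [FiniteDimensional K V] {U : Module.End K V}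
    (hker : Module.finrank K (LinearMap.ker U) ≤ 1) :
    ∀ i : ℕ, Module.finrank K (LinearMap.ker (U ^ i)) ≤ i := by
  intro i
  induction i with
  | zero =>
    rw [pow_zero, Module.End.one_eq_id, LinearMap.ker_id, finrank_bot]
  | succ i ih =>
    let r : LinearMap.ker (U ^ (i + 1)) →ₗ[K] LinearMap.ker (U ^ i) := U.restrict (fun v hv => by
      rw [LinearMap.mem_ker] at hv ⊢
      rwa [← Module.End.mul_apply, ← pow_succ])
    have h1 := r.finrank_range_add_finrank_ker
    have h2 : Module.finrank K (LinearMap.range r) ≤ i := (Submodule.finrank_le _).trans ih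
    have h3 : Module.finrank K (LinearMap.ker r) ≤ 1 := by
      refine le_trans ?_ hker
      refine LinearMap.finrank_le_finrank_of_injective
        (f := (((LinearMap.ker (U ^ (i + 1))).subtype.comp (LinearMap.ker r).subtype).codRestrict
          (LinearMap.ker U) fun v => LinearMap.mem_ker.2 (congrArg Subtype.val (LinearMap.mem_ker.1 v.2))))
        (fun a b hab => Subtype.ext (Subtype.ext (congrArg Subtype.val hab :)))
    omega

theorem index_of_commutant [FiniteDimensional K V] {U : Module.End K V} {h s : ℕ} (hU0 : U ≠ 0)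
    (hs : U ^ s = 0) (hmin : ∀ k < s, U ^ k ≠ 0)
    (key : ∀ f, Commute f U → ∃ c : K, ∃ g, f = c • 1 + jnorm U h g) :
    h - 1 ≤ s ∧ (s = h - 1 → Module.finrank K V = s) := by
  rcases le_or_gt h s with hhs | hsh
  · exact ⟨by omega, fun he => by
      obtain rfl : h = 0 := by omega
      obtain rfl : s = 0 := by omega
      rw [pow_zero] at hs
      exact absurd (LinearMap.ext fun v => by
        have := LinearMap.congr_fun hs (U v); simpa using this) hU0⟩
  have hs2 : 2 ≤ s := by
    by_contra hcon
    rcases (by omega : s = 0 ∨ s = 1) with rfl | rfl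
    · exact hU0 (LinearMap.ext fun v => by
        have := LinearMap.congr_fun hs (U v); simpa using this)
    · exact hU0 (by rwa [pow_one] at hs)
  -- norms vanish on the kernel
  have hker : ∀ g v, U v = 0 → jnorm U h g v = 0 := by
    intro g v hv
    rw [jnorm, LinearMap.sum_apply]
    refine Finset.sum_eq_zero fun i hi => ?_
    rw [Finset.mem_range] at hi
    rcases Nat.eq_zero_or_pos (h - 1 - i) with h0 | hpos
    · rw [pow_eq_zero_of_le (show s ≤ i by omega) hs, zero_mul, zero_mul, LinearMap.zero_apply]
    · obtain ⟨j, hj⟩ : ∃ j, h - 1 - i = j + 1 := ⟨h - 1 - i - 1, by omega⟩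
      rw [hj, pow_succ, Module.End.mul_apply, Module.End.mul_apply, Module.End.mul_apply, hv, map_zero, map_zero, map_zero]
  -- norms go deep
  have hrange : ∀ g v, ∃ w, jnorm U h g v = (U ^ (h - s)) w := by
    intro g v
    suffices hmem : jnorm U h g v ∈ LinearMap.range (U ^ (h - s)) by
      obtain ⟨w, hw⟩ := hmem; exact ⟨w, hw.symm⟩
    rw [jnorm, LinearMap.sum_apply]
    refine Submodule.sum_mem _ fun i hi => ?_
    rw [Finset.mem_range] at hi
    rcases le_or_gt (h - s) i with hle | hlt
    · exact ⟨(U ^ (i - (h - s))) (g ((U ^ (h - 1 - i)) v)), by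
        rw [← Module.End.mul_apply, ← pow_add, show h - s + (i - (h - s)) = i by omega]; rfl⟩
    · rw [pow_eq_zero_of_le (show s ≤ h - 1 - i by omega) hs, mul_zero, LinearMap.zero_apply]
      exact Submodule.zero_mem _
  obtain ⟨u, hu⟩ : ∃ u, (U ^ (s - 1)) u ≠ 0 := by
    by_contra hall
    push Not at hall
    exact hmin (s - 1) (by omega) (LinearMap.ext hall)
  set v := (U ^ (s - 1)) u with hv
  have hUv : U v = 0 := by
    rw [hv, ← Module.End.mul_apply, ← pow_succ', show s - 1 + 1 = s by omega, hs, LinearMap.zero_apply]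
  have hsub : h - s ≤ 1 := by
    by_contra hcon
    obtain ⟨c, g, hf⟩ := key U (Commute.refl U)
    have hc : c = 0 := by
      have h1 := LinearMap.congr_fun hf v
      rw [LinearMap.add_apply, hker g v hUv, add_zero, hUv, LinearMap.smul_apply, Module.End.one_apply] at h1
      exact (smul_eq_zero.1 h1.symm).resolve_right hu
    have hdeep : ∀ w, ∃ w', U w = (U ^ 2) w' := by
      intro w
      obtain ⟨w', hw'⟩ := hrange g w
      refine ⟨(U ^ (h - s - 2)) w', ?_⟩
      rw [← Module.End.mul_apply, ← pow_add, show 2 + (h - s - 2) = h - s by omega, ← hw']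
      conv_lhs => rw [hf, hc, zero_smul, zero_add]
    have hall : ∀ j w, ∃ w', U w = (U ^ (j + 1)) w' := by
      intro j
      induction j with
      | zero => exact fun w => ⟨w, by rw [zero_add, pow_one]⟩
      | succ j ih =>
        intro w
        obtain ⟨w₁, h₁⟩ := ih w
        obtain ⟨w₂, h₂⟩ := hdeep w₁
        refine ⟨w₂, ?_⟩
        rw [h₁, pow_succ, Module.End.mul_apply, h₂, ← Module.End.mul_apply, ← pow_add]
    exact hU0 (LinearMap.ext fun w => by
      obtain ⟨w', hw'⟩ := hall s w
      rw [hw', pow_eq_zero_of_le (show s ≤ s + 1 by omega) hs]; rfl)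
  refine ⟨by omega, fun _ => ?_⟩
  have hdim1 : Module.finrank K (LinearMap.ker U) ≤ 1 := by
    obtain ⟨φ, hφ⟩ := Module.Projective.exists_dual_ne_zero K hu
    set A : Module.End K V := φ.smulRight u with hA
    set f := ∑ i ∈ Finset.range s, U ^ i * A * U ^ (s - 1 - i) with hf
    have hcomm : Commute f U := by
      have e : ∀ i ∈ Finset.range s, U * (U ^ i * A * U ^ (s - 1 - i)) - U ^ i * A * U ^ (s - 1 - i) * U =
          U ^ (i + 1) * A * U ^ (s - (i + 1)) - U ^ i * A * U ^ (s - i) := by
        intro i hi
        rw [Finset.mem_range] at hi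
        rw [← mul_assoc, ← mul_assoc, ← pow_succ', mul_assoc _ _ U, ← pow_succ, show s - (i + 1) = s - 1 - i by omega,
          show s - 1 - i + 1 = s - i by omega]
      show f * U = U * f
      rw [eq_comm, ← sub_eq_zero, hf, Finset.mul_sum, Finset.sum_mul, ← Finset.sum_sub_distrib,
        Finset.sum_congr rfl e, Finset.sum_range_sub (fun i => U ^ i * A * U ^ (s - i)), hs]
      simp [hs]
    obtain ⟨c, g, hfc⟩ := key f hcomm
    have hfw : ∀ w, U w = 0 → φ w • v = c • w := by
      intro w hw
      have h1 : f w = φ w • v := by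
        rw [hf, LinearMap.sum_apply, Finset.sum_eq_single (s - 1)]
        · rw [show s - 1 - (s - 1) = 0 by omega, pow_zero, mul_one, Module.End.mul_apply, hA,
            LinearMap.smulRight_apply, map_smul, ← hv]
        · intro i hi hne
          rw [Finset.mem_range] at hi
          obtain ⟨j, hj⟩ : ∃ j, s - 1 - i = j + 1 := ⟨s - 1 - i - 1, by omega⟩
          rw [hj, pow_succ, Module.End.mul_apply, Module.End.mul_apply, Module.End.mul_apply, hw, map_zero, map_zero, map_zero]
        · intro h'
          exact absurd (Finset.mem_range.2 (by omega)) h'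
      rw [← h1, hfc, LinearMap.add_apply, hker g w hw, add_zero, LinearMap.smul_apply, Module.End.one_apply]
    have hc : c ≠ 0 := fun h0 => by
      have h1 := hfw v hUv
      rw [h0, zero_smul, smul_eq_zero] at h1
      exact h1.elim hφ hu
    refine (Submodule.finrank_mono (t := K ∙ v) fun w hw => ?_).trans (finrank_span_singleton hu).le
    rw [Submodule.mem_span_singleton]
    exact ⟨c⁻¹ * φ w, by rw [mul_smul, hfw w (LinearMap.mem_ker.1 hw), inv_smul_smul₀ hc]⟩
  refine le_antisymm ?_ ?_
  · have h1 := finrank_ker_pow_le hdim1 s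
    rwa [hs, LinearMap.ker_zero, finrank_top] at h1
  · by_contra hlt
    refine hmin (Module.finrank K V) (by omega) ?_
    have h1 := Module.End.ker_pow_eq_ker_pow_finrank_of_le (f := U) (show Module.finrank K V ≤ s by omega)
    rw [hs, LinearMap.ker_zero] at h1
    exact LinearMap.ker_eq_top.1 h1.symm

open Polynomial in
/-- The norm of `T = 1 + U` in terms of `U`. -/
theorem sum_conj_eq_jnorm {p : ℕ} [Fact p.Prime] [CharP K p] (T : Module.End K V) (n : ℕ) (g : Module.End K V) :
    ∑ j ∈ Finset.range (p ^ n), T ^ j * g * T ^ (p ^ n - 1 - j) = jnorm (T - 1) (p ^ n) g := by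
  set h := p ^ n with hh
  haveI : CharP K[X][X] p := inferInstance
  set x : K[X][X] := Polynomial.C Polynomial.X with hx
  set y : K[X][X] := Polynomial.X with hy
  have hpoly : ∑ j ∈ Finset.range h, x ^ j * y ^ (h - 1 - j) =
      ∑ j ∈ Finset.range h, (x - 1) ^ j * (y - 1) ^ (h - 1 - j) := by
    have hne : x - y ≠ 0 := by
      rw [hx, hy, sub_ne_zero]
      intro e
      have := congrArg (fun q => Polynomial.coeff q 1) e
      simp at this
    refine mul_right_cancel₀ hne ?_
    have h2 := geom_sum₂_mul (x - 1) (y - 1) h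
    rw [sub_sub_sub_cancel_right] at h2
    rw [geom_sum₂_mul, h2, hh, sub_pow_char_pow (x := x) (y := 1),
      sub_pow_char_pow (x := y) (y := 1), one_pow, sub_sub_sub_cancel_right]
  let L : Module.End K (Module.End K V) := LinearMap.mulLeft K T
  let R : Module.End K (Module.End K V) := LinearMap.mulRight K T
  have hLR : ∀ a : K[X], Commute (Polynomial.aeval L a) R := fun a => by
    have hc : Commute L R := LinearMap.ext fun f => (mul_assoc T f T).symm
    induction a using Polynomial.induction_on' with
    | add a b ha hb => rw [map_add]; exact ha.add_left hb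
    | monomial m c => rw [Polynomial.aeval_monomial]; exact Commute.mul_left (Algebra.commutes c R) (hc.pow_left m)
  let ψ : K[X][X] →+* Module.End K (Module.End K V) := Polynomial.eval₂RingHom' (Polynomial.aeval L).toRingHom R hLR
  have hψx : ψ x = L := (Polynomial.eval₂_C _ _).trans (Polynomial.aeval_X L)
  have hψy : ψ y = R := Polynomial.eval₂_X _ _
  have h3 := congrArg (fun z => z g) (congrArg ψ hpoly)
  simp only [map_sum, map_mul, map_pow, map_sub, map_one, hψx, hψy, LinearMap.sum_apply] at h3
  have hL1 : L - 1 = LinearMap.mulLeft K (T - 1) := LinearMap.ext fun f => by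
    simp [L, sub_mul]
  have hR1 : R - 1 = LinearMap.mulRight K (T - 1) := LinearMap.ext fun f => by
    simp [R, mul_sub]
  rw [hL1, hR1] at h3
  simp only [L, R, LinearMap.pow_mulLeft, LinearMap.pow_mulRight, Module.End.mul_apply,
    LinearMap.mulLeft_apply, LinearMap.mulRight_apply, ← mul_assoc] at h3
  exact h3

end Cfsg.Agent.HallHigman
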