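import Cfsg.Agent.HallHigman.Dim
import Cfsg.Agent.HallHigman.Jordan

/-!
The critical case of Hall and Higman's Theorem B: a cyclic `p`-group acting on an irreducible
`q`-group of operators, with central centralisers.
-/

set_option autoImplicit false

namespace Cfsg.Agent.HallHigman

open Subgroup

/-- Orbit decomposition of a sum along a freely acting cyclic permutation. -/
theorem exists_orbit_sum {α M : Type*} [DecidableEq α] [AddCommMonoid M] (π : α ≃ α) {h : ℕ} (hh : 0 < h)
    (hper : ∀ a, π^[h] a = a) (L : M →+ M) (F : α → M) (hF : ∀ a, F (π a) = L (F a)) :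
    ∀ S : Finset α, (∀ a ∈ S, π a ∈ S) → (∀ a ∈ S, ∀ j, 0 < j → j < h → π^[j] a ≠ a) →
      ∃ g : M, ∑ a ∈ S, F a = ∑ j ∈ Finset.range h, L^[j] g := by
  intro S
  induction S using Finset.strongInduction with
  | H S ih =>
    intro hS hfree
    rcases S.eq_empty_or_nonempty with rfl | ⟨a, ha⟩
    · exact ⟨0, by simp⟩
    have hmem : ∀ j, π^[j] a ∈ S := fun j => by
      induction j with
      | zero => exact ha
      | succ j ihj => rw [Function.iterate_succ_apply']; exact hS _ ihj
    set O := (Finset.range h).image (fun j => π^[j] a) with hO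
    have hOS : O ⊆ S := Finset.image_subset_iff.2 fun j _ => hmem j
    have hinj : Set.InjOn (fun j => π^[j] a) ↑(Finset.range h) := by
      intro i hi j hj hij
      simp only [Finset.coe_range, Set.mem_Iio] at hi hj
      by_contra hne
      rcases Nat.lt_or_gt_of_ne hne with hlt | hlt
      · refine hfree a ha (j - i) (by omega) (by omega) ((π.injective.iterate i) ?_)
        rw [← Function.iterate_add_apply, show i + (j - i) = j by omega]
        exact hij.symm
      · refine hfree a ha (i - j) (by omega) (by omega) ((π.injective.iterate j) ?_)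
        rw [← Function.iterate_add_apply, show j + (i - j) = i by omega]
        exact hij
    have hsub : S \ O ⊂ S := Finset.sdiff_ssubset hOS ⟨a, Finset.mem_image.2 ⟨0, Finset.mem_range.2 hh, rfl⟩⟩
    obtain ⟨g, hg⟩ := ih (S \ O) hsub (fun b hb => by
      rw [Finset.mem_sdiff] at hb ⊢
      refine ⟨hS b hb.1, fun hc => hb.2 ?_⟩
      obtain ⟨j, -, hj⟩ := Finset.mem_image.1 hc
      refine Finset.mem_image.2 ⟨(j + (h - 1)) % h, Finset.mem_range.2 (Nat.mod_lt _ hh), ?_⟩
      have e : π^[j + (h - 1)] a = b := by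
        rw [add_comm, Function.iterate_add_apply, hj, ← Function.iterate_succ_apply,
          show (h - 1).succ = h by omega, hper]
      have hp' : Function.IsPeriodicPt π h a := hper a
      rw [hp'.iterate_mod_apply, e])
      fun b hb => hfree b (Finset.mem_sdiff.1 hb).1
    refine ⟨F a + g, ?_⟩
    rw [← Finset.sum_sdiff hOS, hg, hO, Finset.sum_image hinj, ← Finset.sum_add_distrib]
    refine Finset.sum_congr rfl fun j hj => ?_
    have h1 : F (π^[j] a) = L^[j] (F a) := by
      clear hg hj
      induction j with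
      | zero => rfl
      | succ j ihj => rw [Function.iterate_succ_apply', hF, ihj]; exact (Function.iterate_succ_apply' L j _).symm
    rw [h1, iterate_map_add, add_comm]

variable {K : Type*} [Field K] [IsAlgClosed K] {V : Type*} [AddCommGroup V] [Module K V]
  [FiniteDimensional K V] [Nontrivial V]

/-- Fourier inversion for an irreducible representation. -/
theorem sum_trace_smul {Q : Type*} [Group Q] [Fintype Q] {σ : Q →* Module.End K V} (hirr : Irred σ)
    (hd : (Module.finrank K V : K) ≠ 0) (f : Module.End K V) :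
    ∑ g : Q, LinearMap.trace K V (f * σ g⁻¹) • σ g = ((Fintype.card Q : K) / Module.finrank K V) • f := by
  classical
  have hav : ∀ A : Module.End K V, ∑ g : Q, σ g * A * σ g⁻¹ =
      ((Fintype.card Q : K) * LinearMap.trace K V A / Module.finrank K V) • 1 := by
    intro A
    obtain ⟨c, hc⟩ := scalar_of_commute hirr (∑ g : Q, σ g * A * σ g⁻¹) (fun k => by
      show _ * σ k = σ k * _
      rw [Finset.sum_mul, Finset.mul_sum]
      refine (Fintype.sum_equiv (Equiv.mulLeft k) _ _ fun g => ?_).symm
      rw [Equiv.coe_mulLeft, mul_inv_rev, map_mul, map_mul]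
      simp only [mul_assoc]
      rw [← map_mul σ k⁻¹, inv_mul_cancel, map_one, mul_one])
    have h1 := congrArg (LinearMap.trace K V) hc
    rw [map_sum, map_smul, LinearMap.trace_one, smul_eq_mul] at h1
    have h2 : ∀ g : Q, LinearMap.trace K V (σ g * A * σ g⁻¹) = LinearMap.trace K V A := fun g => by
      rw [LinearMap.trace_mul_comm, ← mul_assoc, ← map_mul, inv_mul_cancel, map_one, one_mul]
    rw [Finset.sum_congr rfl fun g _ => h2 g, Finset.sum_const, Finset.card_univ, nsmul_eq_mul] at h1
    rw [hc, h1, mul_div_assoc, div_self hd, mul_one]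
  let b := Module.finBasis K V
  have htr : ∀ X : Module.End K V, LinearMap.trace K V X = ∑ i, b.coord i (X (b i)) := fun X => by
    rw [LinearMap.trace_eq_matrix_trace K b, Matrix.trace]
    exact Finset.sum_congr rfl fun i _ => by rw [Matrix.diag_apply, LinearMap.toMatrix_apply]; rfl
  refine LinearMap.ext fun v => ?_
  have h3 : ∀ i, ∑ g : Q, b.coord i ((f * σ g⁻¹) (b i)) • σ g v =
      ((Fintype.card Q : K) / Module.finrank K V * b.coord i (f v)) • b i := by
    intro i
    have h4 := LinearMap.congr_fun (hav (((b.coord i).comp f).smulRight v)) (b i)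
    rw [LinearMap.trace_smulRight, LinearMap.sum_apply] at h4
    simp only [Module.End.mul_apply, LinearMap.smulRight_apply, LinearMap.comp_apply, map_smul,
      LinearMap.smul_apply, Module.End.one_apply] at h4 ⊢
    rw [h4, mul_comm ((Fintype.card Q : K)), mul_div_assoc, mul_comm]
  rw [LinearMap.sum_apply, LinearMap.smul_apply]
  simp only [htr, Finset.sum_smul, LinearMap.sum_apply, LinearMap.smul_apply]
  rw [Finset.sum_comm, Finset.sum_congr rfl fun i _ => h3 i]
  simp only [mul_smul, ← Finset.smul_sum]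
  congr 1
  exact b.sum_repr (f v)

/-- The critical case, with the degree. -/
theorem critical_finrank {G : Type*} [Group G] [Finite G] {p q : ℕ} [hp : Fact p.Prime] [hq : Fact q.Prime]
    (hpq : p ≠ q) [CharP K p] (Q : Subgroup G) [Q.Normal] (hQ : IsPGroup q Q) {x : G} {n : ℕ}
    (hord : orderOf x = p ^ n) (hgen : Q ⊔ zpowers x = ⊤)
    (hC : ∀ y ∈ zpowers x, y ≠ 1 → centralizer ({y} : Set G) = zpowers x ⊔ center G)
    (ρ : G →* Module.End K V) (hinj : Function.Injective ρ) (hirr : Irred (ρ.comp Q.subtype))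
    {s : ℕ} (hs : (ρ x - 1) ^ s = 0) (hmin : ∀ k < s, (ρ x - 1) ^ k ≠ 0) :
    p ^ n - 1 ≤ s ∧ s ≤ p ^ n ∧
      (s = p ^ n - 1 → Module.finrank K V = s ∧ (∃ b : ℕ, p ^ n - 1 = q ^ b) ∧ ¬ IsMulCommutative Q) := by
  classical
  set h := p ^ n with hh
  have hpos : 0 < h := pow_pos hp.out.pos n
  haveI : CharP (Module.End K V) p := charP_of_injective_algebraMap (algebraMap K (Module.End K V)).injective p
  have hxh : x ^ h = 1 := by rw [← hord, pow_orderOf_eq_one]
  have hle : s ≤ h := by
    by_contra hcon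
    refine hmin h (by omega) ?_
    rw [sub_pow_char_pow_of_commute p n (Commute.one_right _), ← map_pow, hxh, map_one, one_pow, sub_self]
  by_cases hx1 : x = 1
  · have h1 : h = 1 := by rw [← hord, hx1, orderOf_one]
    have hs1 : s ≠ 0 := fun h0 => by
      rw [h0, pow_zero] at hs; exact one_ne_zero hs
    exact ⟨by omega, hle, fun he => absurd he (by omega)⟩
  set σ := ρ.comp Q.subtype with hσ
  obtain ⟨b, hb⟩ := finrank_eq_pow (K := K) (Nat.card Q) Q hQ le_rfl V σ hirr
  have hqK : (q : K) ≠ 0 := fun h0 => by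
    have h1 := (CharP.cast_eq_zero_iff K p q).1 h0
    exact hpq ((Nat.prime_dvd_prime_iff_eq hp.out hq.out).1 h1)
  have hd : (Module.finrank K V : K) ≠ 0 := by rw [hb, Nat.cast_pow]; exact pow_ne_zero b hqK
  haveI := Fintype.ofFinite Q
  have hQcard : (Fintype.card Q : K) ≠ 0 := by
    obtain ⟨j, hj⟩ := IsPGroup.iff_card.1 hQ
    rw [← Nat.card_eq_fintype_card, hj, Nat.cast_pow]; exact pow_ne_zero j hqK
  have hU0 : ρ x - 1 ≠ 0 := fun h0 => hx1 (hinj (by rw [sub_eq_zero.1 h0, map_one]))
  have key : ∀ f, Commute f (ρ x - 1) → ∃ c : K, ∃ g, f = c • 1 + jnorm (ρ x - 1) h g := by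
    intro f hf
    have hfT : Commute f (ρ x) := by simpa using hf.add_right (Commute.one_right f)
    set F : Q → Module.End K V := fun g => LinearMap.trace K V (f * σ g⁻¹) • σ g with hF
    let π : Q ≃ Q := (MulAut.conjNormal x : MulAut Q).toEquiv
    have hπit : ∀ (j : ℕ) (a : Q), ((π^[j] a : Q) : G) = x ^ j * a * (x ^ j)⁻¹ := by
      intro j a
      induction j with
      | zero => simp
      | succ j ihj =>
        rw [Function.iterate_succ_apply']
        show ((MulAut.conjNormal x (π^[j] a) : Q) : G) = _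
        rw [MulAut.conjNormal_apply, ihj, pow_succ']
        group
    let L : Module.End K V →+ Module.End K V := AddMonoidHom.mk' (fun A => ρ x * A * ρ x⁻¹)
      (fun A B => by rw [mul_add, add_mul])
    have hLF : ∀ a, F (π a) = L (F a) := by
      intro a
      show LinearMap.trace K V (f * ρ ((MulAut.conjNormal x a)⁻¹ : Q)) • ρ (MulAut.conjNormal x a : Q) =
        ρ x * (LinearMap.trace K V (f * ρ (a⁻¹ : Q)) • ρ (a : G)) * ρ x⁻¹
      rw [InvMemClass.coe_inv, InvMemClass.coe_inv, MulAut.conjNormal_apply, mul_smul_comm, smul_mul_assoc,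
        map_mul ρ (x * a), map_mul ρ x]
      congr 1
      rw [show (x * (a : G) * x⁻¹)⁻¹ = x * (a : G)⁻¹ * x⁻¹ by group, map_mul ρ (x * (a : G)⁻¹) x⁻¹,
        map_mul ρ x (a : G)⁻¹, ← mul_assoc, ← mul_assoc, hfT.eq, LinearMap.trace_mul_comm, ← mul_assoc,
        ← mul_assoc, ← map_mul ρ x⁻¹ x, inv_mul_cancel, map_one, one_mul]
    set S := Finset.univ.filter (fun g : Q => (g : G) ∉ center G) with hS
    obtain ⟨g, hg⟩ := exists_orbit_sum π hpos (fun a => Subtype.ext (by rw [hπit, hxh]; simp)) L F hLF S
      (fun a ha => by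
        simp only [hS, Finset.mem_filter, Finset.mem_univ, true_and] at ha ⊢
        intro hc
        refine ha ?_
        have h1 : ((π a : Q) : G) = x * a * x⁻¹ := MulAut.conjNormal_apply x a
        rw [h1] at hc
        have h2 := (center G).mul_mem hc (one_mem _)
        have h3 := (inferInstance : (center G).Normal).conj_mem _ hc x⁻¹
        simpa [mul_assoc] using h3)
      (fun a ha j hj hjh heq => by
        simp only [hS, Finset.mem_filter, Finset.mem_univ, true_and] at ha
        refine ha ?_
        have hy : x ^ j ≠ 1 := pow_ne_one_of_lt_orderOf hj.ne' (by rw [hord]; exact hjh)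
        have h1 : (a : G) ∈ centralizer ({x ^ j} : Set G) := by
          rw [mem_centralizer_singleton_iff]
          have h2 := congrArg Subtype.val heq
          rw [hπit] at h2
          exact (mul_inv_eq_iff_eq_mul.1 h2).symm
        rw [hC _ (pow_mem (mem_zpowers x) j) hy] at h1
        obtain ⟨u, hu, z, hz, huz⟩ := mem_sup_of_normal_right.1 h1
        have huh : u ^ h = 1 := by
          obtain ⟨i, rfl⟩ := mem_zpowers_iff.1 hu
          rw [← zpow_natCast, ← zpow_mul, mul_comm, zpow_mul, zpow_natCast, hxh, one_zpow]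
        have hah : (a : G) ^ h ∈ center G := by
          rw [← huz, Commute.mul_pow (mem_center_iff.1 hz u : Commute u z), huh, one_mul]
          exact pow_mem hz h
        obtain ⟨i, hi⟩ := IsPGroup.iff_orderOf.1 hQ a
        have hcop : (orderOf (a : G)).Coprime h := by
          rw [orderOf_coe, hi, hh]; exact ((Nat.coprime_primes hq.out hp.out).2 hpq.symm).pow i n
        obtain ⟨m, hm⟩ := exists_pow_eq_self_of_coprime hcop.symm
        rw [← hm]
        exact pow_mem hah m)
    -- the central part is scalar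
    obtain ⟨c, hc⟩ : ∃ c : K, ∑ a ∈ Finset.univ.filter (fun g : Q => ¬ (g : G) ∉ center G), F a = c • 1 := by
      have hall : ∀ a : Q, ¬ (a : G) ∉ center G → ∃ c : K, F a = c • 1 := by
        intro a ha
        obtain ⟨c, hc⟩ := scalar_of_commute hirr (σ a) (fun k => by
          show σ a * σ k = σ k * σ a
          rw [← map_mul, ← map_mul, show a * k = k * a from Subtype.ext (mem_center_iff.1 (not_not.1 ha) k).symm])
        exact ⟨_, by rw [hF]; dsimp only; rw [hc, smul_smul]⟩
      choose! cf hcf using hall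
      exact ⟨∑ a ∈ Finset.univ.filter (fun g : Q => ¬ (g : G) ∉ center G), cf a, by
        rw [Finset.sum_smul]; exact Finset.sum_congr rfl fun a ha => hcf a (Finset.mem_filter.1 ha).2⟩
    have hinv := sum_trace_smul hirr hd f
    rw [← Finset.sum_filter_add_sum_filter_not Finset.univ (fun g : Q => (g : G) ∉ center G), hc, ← hS, hg] at hinv
    set μ := (Fintype.card Q : K) / Module.finrank K V with hμ
    have hμ0 : μ ≠ 0 := div_ne_zero hQcard hd
    have hit : ∀ j, j < h → L^[j] g = ρ x ^ j * (g * ρ x) * ρ x ^ (h - 1 - j) := by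
      intro j hj
      have h1 : ∀ j, L^[j] g = ρ (x ^ j) * g * ρ (x⁻¹ ^ j) := by
        intro j
        induction j with
        | zero => simp
        | succ j ihj =>
          rw [Function.iterate_succ_apply', ihj]
          show ρ x * (ρ (x ^ j) * g * ρ (x⁻¹ ^ j)) * ρ x⁻¹ = _
          simp only [pow_succ' x, pow_succ x⁻¹, map_mul, mul_assoc]
      rw [h1, show x⁻¹ ^ j = x ^ (h - j) by
        rw [inv_pow, inv_eq_iff_mul_eq_one, ← pow_add, show j + (h - j) = h by omega, hxh],
        show h - j = 1 + (h - 1 - j) by omega, pow_add, pow_one, map_mul, map_pow, map_pow]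
      simp only [mul_assoc]
    refine ⟨μ⁻¹ * c, μ⁻¹ • (g * ρ x), ?_⟩
    have hj : jnorm (ρ x - 1) h (μ⁻¹ • (g * ρ x)) = μ⁻¹ • jnorm (ρ x - 1) h (g * ρ x) := by
      simp only [jnorm, Finset.smul_sum, mul_smul_comm, smul_mul_assoc]
    rw [hj, hh, ← sum_conj_eq_jnorm (ρ x) n, ← hh]
    rw [Finset.sum_congr rfl fun j hj' => (hit j (Finset.mem_range.1 hj'))] at hinv
    rw [mul_smul, ← smul_add, add_comm, hinv, inv_smul_smul₀ hμ0]
  obtain ⟨h1, h2⟩ := index_of_commutant hU0 hs hmin key
  refine ⟨h1, hle, fun he => ⟨h2 he, ⟨b, by rw [← he, ← h2 he, hb]⟩, fun hab => ?_⟩⟩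
  -- abelian operators give dimension one
  have hone : Module.finrank K V = 1 := by
    obtain ⟨w, hw⟩ := exists_ne (0 : V)
    rcases hirr (K ∙ w) (fun k v hv => by
      obtain ⟨c, hc⟩ := scalar_of_commute hirr (σ k) (fun m => by
        show σ k * σ m = σ m * σ k
        rw [← map_mul, ← map_mul, hab.is_comm.comm])
      rw [hc, LinearMap.smul_apply, Module.End.one_apply]
      exact Submodule.smul_mem _ c hv) with h' | h'
    · rw [Submodule.span_singleton_eq_bot] at h'; exact absurd h' hw
    · rw [← finrank_top, ← h', finrank_span_singleton hw]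
  rw [h2 he] at hone
  subst hone
  exact hU0 (by rw [← pow_one (ρ x - 1)]; exact hs)

/-- The critical case. -/
theorem critical {G : Type*} [Group G] [Finite G] {p q : ℕ} [hp : Fact p.Prime] [hq : Fact q.Prime]
    (hpq : p ≠ q) [CharP K p] (Q : Subgroup G) [Q.Normal] (hQ : IsPGroup q Q) {x : G} {n : ℕ}
    (hord : orderOf x = p ^ n) (hgen : Q ⊔ zpowers x = ⊤)
    (hC : ∀ y ∈ zpowers x, y ≠ 1 → centralizer ({y} : Set G) = zpowers x ⊔ center G)
    (ρ : G →* Module.End K V) (hinj : Function.Injective ρ) (hirr : Irred (ρ.comp Q.subtype))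
    {s : ℕ} (hs : (ρ x - 1) ^ s = 0) (hmin : ∀ k < s, (ρ x - 1) ^ k ≠ 0) :
    p ^ n - 1 ≤ s ∧ s ≤ p ^ n ∧
      (s = p ^ n - 1 → (∃ b : ℕ, p ^ n - 1 = q ^ b) ∧ ¬ IsMulCommutative Q) :=
  have h := critical_finrank hpq Q hQ hord hgen hC ρ hinj hirr hs hmin
  ⟨h.1, h.2.1, fun he => (h.2.2 he).2⟩

end Cfsg.Agent.HallHigman
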