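import Mathlib

/-!
Irreducible representations of `q`-groups over an algebraically closed field have `q`-power degree.
-/

set_option autoImplicit false

namespace Cfsg.Agent.HallHigman

open Subgroup
open scoped commutatorElement

universe u v w

variable {K : Type w} [Field K]

/-- Irreducibility of a family of operators. -/
def Irred {Q : Type u} [Group Q] {V : Type v} [AddCommGroup V] [Module K V]
    (τ : Q →* Module.End K V) : Prop :=
  ∀ W : Submodule K V, (∀ g, ∀ v ∈ W, τ g v ∈ W) → W = ⊥ ∨ W = ⊤

theorem scalar_of_commute [IsAlgClosed K] {Q : Type u} [Group Q] {V : Type v} [AddCommGroup V]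
    [Module K V] [FiniteDimensional K V] [Nontrivial V] {τ : Q →* Module.End K V} (hirr : Irred τ)
    (f : Module.End K V) (hf : ∀ g, Commute f (τ g)) : ∃ c : K, f = c • 1 := by
  obtain ⟨c, hc⟩ := Module.End.exists_eigenvalue f
  refine ⟨c, LinearMap.ext fun v => ?_⟩
  have h := hirr (Module.End.eigenspace f c) (fun g v hv => by
    rw [Module.End.mem_eigenspace_iff] at hv ⊢
    rw [← Module.End.mul_apply, (hf g).eq, Module.End.mul_apply, hv, map_smul])
  have h' := h.resolve_left hc
  have hv : v ∈ Module.End.eigenspace f c := h'.symm ▸ Submodule.mem_top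
  rw [Module.End.mem_eigenspace_iff] at hv
  simpa using hv

theorem apply_inv_apply {Q : Type u} [Group Q] {V : Type v} [AddCommGroup V] [Module K V]
    (τ : Q →* Module.End K V) (g : Q) (v : V) : τ g (τ g⁻¹ v) = v := by
  rw [← Module.End.mul_apply, ← map_mul, mul_inv_cancel, map_one, Module.End.one_apply]

theorem inv_apply_apply {Q : Type u} [Group Q] {V : Type v} [AddCommGroup V] [Module K V]
    (τ : Q →* Module.End K V) (g : Q) (v : V) : τ g⁻¹ (τ g v) = v := by
  rw [← Module.End.mul_apply, ← map_mul, inv_mul_cancel, map_one, Module.End.one_apply]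

theorem apply_injective {Q : Type u} [Group Q] {V : Type v} [AddCommGroup V] [Module K V]
    (τ : Q →* Module.End K V) (g : Q) : Function.Injective (τ g) := fun a b h => by
  rw [← inv_apply_apply τ g a, h, inv_apply_apply]

theorem finrank_eq_pow [IsAlgClosed K] {q : ℕ} [hq : Fact q.Prime] :
    ∀ (N : ℕ) (Q : Type u) [Group Q] [Finite Q], IsPGroup q Q → Nat.card Q ≤ N →
    ∀ (V : Type v) [AddCommGroup V] [Module K V] [FiniteDimensional K V] [Nontrivial V]
      (τ : Q →* Module.End K V), Irred τ → ∃ b : ℕ, Module.finrank K V = q ^ b := by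
  classical
  intro N
  induction N with
  | zero => intro Q _ _ _ h; exact absurd h (Nat.not_le.2 Nat.card_pos)
  | succ N ih =>
  intro Q _ _ hQ hN V _ _ _ _ τ hirr
  by_cases hsc : ∀ g, ∃ c : K, τ g = c • 1
  · refine ⟨0, ?_⟩
    obtain ⟨w, hw⟩ := exists_ne (0 : V)
    rcases hirr (K ∙ w) (fun g v hv => by
      obtain ⟨c, hc⟩ := hsc g
      rw [hc, LinearMap.smul_apply, Module.End.one_apply]
      exact Submodule.smul_mem _ c hv) with h | h
    · rw [Submodule.span_singleton_eq_bot] at h; exact absurd h hw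
    · rw [pow_zero, ← finrank_top, ← h, finrank_span_singleton hw]
  · push Not at hsc
    obtain ⟨g₀, hg₀⟩ := hsc
    have := hQ.isNilpotent
    have hex : ∃ c, ∀ a ∈ (⊤ : Subgroup Q).lowerCentralSeries c, ∃ s : K, τ a = s • 1 :=
      ⟨Group.nilpotencyClass Q, fun a ha => by
        rw [Subgroup.lowerCentralSeries_eq_bot_iff_nilpotencyClass_le.2 le_rfl, mem_bot] at ha
        exact ⟨1, by rw [ha, map_one, one_smul]⟩⟩
    obtain ⟨i, hi⟩ : ∃ i, Nat.find hex = i + 1 := by
      refine ⟨Nat.find hex - 1, ?_⟩
      have : Nat.find hex ≠ 0 := fun h0 => by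
        obtain ⟨s, hs⟩ := Nat.find_spec hex g₀ (by rw [h0]; exact mem_top g₀)
        exact hg₀ s hs
      omega
    obtain ⟨a, ha, has⟩ : ∃ a ∈ (⊤ : Subgroup Q).lowerCentralSeries i, ∀ s : K, τ a ≠ s • 1 := by
      have := Nat.find_min hex (show i < Nat.find hex by omega)
      push Not at this
      exact this
    have hcom : ∀ g, ∃ s : K, τ g * τ a = s • (τ a * τ g) := by
      intro g
      have hmem : ⁅a, g⁆ ∈ (⊤ : Subgroup Q).lowerCentralSeries (i + 1) :=
        commutator_mem_commutator ha (mem_top g)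
      obtain ⟨s, hs⟩ := Nat.find_spec hex ⁅g, a⁆ (by
        rw [hi, ← commutatorElement_inv a g]; exact inv_mem hmem)
      refine ⟨s, ?_⟩
      rw [← map_mul, ← map_mul, show g * a = ⁅g, a⁆ * (a * g) by rw [commutatorElement_def]; group,
        map_mul, hs, smul_mul_assoc, one_mul]
    choose s hs using hcom
    have hne : ∀ g h : Q, τ g * τ h ≠ 0 := fun g h e => by
      obtain ⟨w, hw⟩ := exists_ne (0 : V)
      refine hw (apply_injective τ (g * h) ?_)
      rw [map_mul, e, LinearMap.zero_apply, LinearMap.zero_apply]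
    have huniq : ∀ g (x y : K), x • (τ a * τ g) = y • (τ a * τ g) → x = y := fun g x y h =>
      smul_left_injective K (hne a g) h
    have hs1 : s 1 = 1 := huniq 1 _ _ (by rw [← hs, one_smul, map_one, mul_one, one_mul])
    have hsmul : ∀ g g', s (g * g') = s g * s g' := fun g g' => huniq (g * g') _ _ (by
      rw [← hs, map_mul, mul_assoc (τ g), hs g', mul_smul_comm, ← mul_assoc, hs g, smul_mul_assoc,
        smul_smul, mul_assoc, mul_comm (s g')])
    let S : Q →* K := { toFun := s, map_one' := hs1, map_mul' := hsmul }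
    have hS0 : ∀ g, s g ≠ 0 := fun g h => by
      have := hsmul g g⁻¹
      rw [mul_inv_cancel, hs1, h, zero_mul] at this
      exact one_ne_zero this
    set H := S.ker with hH
    have hHne : H ≠ ⊤ := fun h => by
      obtain ⟨c, hc⟩ := scalar_of_commute hirr (τ a) (fun g => (by
        have h1 : s g = 1 := (h.ge (mem_top g) : g ∈ H)
        show τ a * τ g = τ g * τ a
        rw [hs g, h1, one_smul]))
      exact has c hc
    obtain ⟨e, he⟩ := Module.End.exists_eigenvalue (τ a)
    set W := Module.End.eigenspace (τ a) e with hW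
    have hWne : W ≠ ⊥ := he
    have hshift : ∀ g, ∀ w ∈ W, τ g w ∈ Module.End.eigenspace (τ a) ((s g)⁻¹ * e) := by
      intro g w hw
      rw [Module.End.mem_eigenspace_iff] at hw ⊢
      have h1 := LinearMap.congr_fun (hs g) w
      rw [Module.End.mul_apply, hw, map_smul, LinearMap.smul_apply, Module.End.mul_apply] at h1
      rw [mul_smul, h1, smul_smul, inv_mul_cancel₀ (hS0 g), one_smul]
    have hHW : ∀ h ∈ H, ∀ w ∈ W, τ h w ∈ W := fun h hh w hw => by
      have h1 := hshift h w hw
      rwa [show s h = 1 from hh, inv_one, one_mul] at h1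
    -- sums over the cosets
    let T : Submodule K V → Q ⧸ H → Submodule K V := fun U t => U.map (τ t.out)
    have htop : ∀ U : Submodule K V, U ≤ W → U ≠ ⊥ → (∀ h ∈ H, ∀ w ∈ U, τ h w ∈ U) → ⨆ t, T U t = ⊤ := by
      intro U _ hU hinv
      refine (hirr _ fun g v hv => ?_).resolve_left fun hb => hU ?_
      · suffices hle : (⨆ t, T U t).map (τ g) ≤ ⨆ t, T U t from hle (Submodule.mem_map_of_mem hv)
        rw [Submodule.map_iSup, iSup_le_iff]
        intro t
        refine le_trans ?_ (le_iSup (T U) ((g * t.out : Q) : Q ⧸ H))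
        rintro _ ⟨_, ⟨w, hw, rfl⟩, rfl⟩
        set t' : Q ⧸ H := ((g * t.out : Q) : Q ⧸ H)
        have hmem : t'.out⁻¹ * (g * t.out) ∈ H := QuotientGroup.eq.1 (by simp [t'])
        refine ⟨τ (t'.out⁻¹ * (g * t.out)) w, hinv _ hmem w hw, ?_⟩
        rw [← Module.End.mul_apply, ← map_mul, ← Module.End.mul_apply, ← map_mul, mul_inv_cancel_left]
      · have h1 : T U 1 ≤ ⊥ := hb ▸ le_iSup (T U) 1
        exact ((Submodule.map_injective_of_injective (apply_injective τ _)).eq_iff' (Submodule.map_bot _)).1 (le_bot_iff.1 h1)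
    have hne1 : (e : K) ≠ 0 := fun h0 => by
      obtain ⟨w, hw, hw0⟩ := Submodule.exists_mem_ne_zero_of_ne_bot hWne
      rw [hW, Module.End.mem_eigenspace_iff, h0, zero_smul] at hw
      exact hw0 (apply_injective τ a (by rw [hw, map_zero]))
    have hTle : ∀ U : Submodule K V, U ≤ W → ∀ t, T U t ≤ Module.End.eigenspace (τ a) ((s (Quotient.out t))⁻¹ * e) := by
      rintro U hU t _ ⟨w, hw, rfl⟩
      exact hshift _ w (hU hw)
    have hind : iSupIndep (T W) := by
      have hinj : Function.Injective fun t : Q ⧸ H => (s t.out)⁻¹ * e := fun t t' h => by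
        have h1 : s t.out = s t'.out := inv_injective (mul_right_cancel₀ hne1 h)
        rw [← QuotientGroup.out_eq' t, ← QuotientGroup.out_eq' t']
        refine QuotientGroup.eq.2 ?_
        show S (t.out⁻¹ * t'.out) = 1
        rw [map_mul]
        show s t.out⁻¹ * s t'.out = 1
        rw [← h1, ← hsmul, inv_mul_cancel, hs1]
      exact ((Module.End.eigenspaces_iSupIndep (τ a)).comp hinj).mono (hTle W le_rfl)
    -- dimensions
    have hint : DirectSum.IsInternal (T W) :=
      DirectSum.isInternal_submodule_of_iSupIndep_of_iSup_eq_top hind (htop W le_rfl hWne hHW)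
    have hdimT : ∀ t, Module.finrank K (T W t) = Module.finrank K W := fun t =>
      (Submodule.equivMapOfInjective _ (apply_injective τ _) W).finrank_eq.symm
    have hdim : Module.finrank K V = H.index * Module.finrank K W := by
      haveI := Fintype.ofFinite (Q ⧸ H)
      rw [← (LinearEquiv.ofBijective (DirectSum.coeLinearMap (T W)) hint).finrank_eq, Module.finrank_directSum,
        Finset.sum_congr rfl fun t _ => hdimT t, Finset.sum_const, Finset.card_univ, smul_eq_mul,
        index_eq_card, Nat.card_eq_fintype_card]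
    -- the restriction
    let τ' : H →* Module.End K W :=
      { toFun := fun h => (τ h).restrict (hHW h h.2)
        map_one' := LinearMap.ext fun w => Subtype.ext (by simp)
        map_mul' := fun h h' => LinearMap.ext fun w => Subtype.ext (by simp) }
    haveI : Nontrivial W := Submodule.nontrivial_iff_ne_bot.2 hWne
    have hirr' : Irred τ' := by
      intro U hU
      by_cases hUb : U = ⊥
      · exact Or.inl hUb
      refine Or.inr (eq_top_iff.2 fun w _ => ?_)
      set U' := U.map W.subtype with hU'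
      have hU'W : U' ≤ W := Submodule.map_subtype_le _ _
      have hU'inv : ∀ h ∈ H, ∀ v ∈ U', τ h v ∈ U' := by
        rintro h hh _ ⟨u, hu, rfl⟩
        exact ⟨τ' ⟨h, hh⟩ u, hU _ u hu, rfl⟩
      have hsup := htop U' hU'W (fun hb => hUb
        (((Submodule.map_injective_of_injective W.injective_subtype).eq_iff' (Submodule.map_bot _)).1 hb)) hU'inv
      have hsplit : ⨆ t, T U' t ≤ U' ⊔ ⨆ (t : Q ⧸ H) (_ : t ≠ 1), T W t := by
        refine iSup_le fun t => ?_
        by_cases ht : t = 1
        · refine le_sup_of_le_left ?_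
          rintro _ ⟨u, hu, rfl⟩
          exact hU'inv _ ((QuotientGroup.eq_one_iff _).1 (by rw [QuotientGroup.out_eq', ht])) u hu
        · exact le_sup_of_le_right (le_iSup₂_of_le t ht (Submodule.map_mono hU'W))
      rw [hsup] at hsplit
      have hw : (w : V) ∈ U' ⊔ ⨆ (t : Q ⧸ H) (_ : t ≠ 1), T W t := hsplit Submodule.mem_top
      obtain ⟨u, hu, o, ho, huo⟩ := Submodule.mem_sup.1 hw
      have hoW : o ∈ T W 1 := by
        have hoW' : o ∈ W := by
          rw [show o = (w : V) - u by rw [← huo, add_sub_cancel_left]]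
          exact W.sub_mem w.2 (hU'W hu)
        have hout : (1 : Q ⧸ H).out ∈ H := (QuotientGroup.eq_one_iff _).1 (QuotientGroup.out_eq' _)
        exact ⟨τ (1 : Q ⧸ H).out⁻¹ o, hHW _ (inv_mem hout) o hoW', apply_inv_apply τ _ o⟩
      have ho0 : o = 0 := Submodule.disjoint_def.1 (hind 1) o hoW ho
      rw [ho0, add_zero] at huo
      obtain ⟨u', hu', hu''⟩ := hu
      rwa [show w = u' from Subtype.ext (by rw [← huo, ← hu'']; rfl)]
    have hlt : Nat.card H < Nat.card Q :=
      lt_of_le_of_ne (Nat.le_of_dvd Nat.card_pos (card_subgroup_dvd_card H)) fun h => hHne (eq_top_of_card_eq H h)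
    obtain ⟨b, hb⟩ := ih H (hQ.to_subgroup H) (by omega) W τ' hirr'
    obtain ⟨j, hj⟩ := hQ.index H
    exact ⟨j + b, by rw [hdim, hj, hb, pow_add]⟩

end Cfsg.Agent.HallHigman
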