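import Cfsg.Agent.HallHigman.TheoremB
import Cfsg.Agent.Core.FaithfulTI
import Cfsg.Agent.Core.PCore

/-!
Theorem B of Hall and Higman for `p`-solvable linear groups over any field of characteristic `p`.
-/

set_option autoImplicit false

namespace Cfsg.Agent.HallHigman

open Subgroup

variable {G : Type*} [Group G] [Finite G] {p : ℕ} [hp : Fact p.Prime]

/-- With trivial `p`-core, the top power of a `p`-element moves an invariant `q`-subgroup. -/
theorem exists_operator_group (hG : Cfsg.IsPSolvable p G) (hO : Cfsg.pCore p G = ⊥) {x : G} {n : ℕ}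
    (hn : 1 ≤ n) (hord : orderOf x = p ^ n) :
    ∃ (q : ℕ) (_ : Fact q.Prime) (Q : Subgroup G), p ≠ q ∧ IsPGroup q Q ∧ x ∈ normalizer (Q : Set G) ∧
      ¬ ∀ a ∈ Q, x ^ p ^ (n - 1) * a = a * x ^ p ^ (n - 1) := by
  classical
  by_contra hall
  push Not at hall
  set σ := x ^ p ^ (n - 1) with hσ
  set N := Cfsg.pPrimeCore p G with hN
  have hcop : (Nat.card (zpowers x)).Coprime (Nat.card N) := by
    rw [Nat.card_zpowers, hord]
    exact Nat.Coprime.pow_left n Core.coprime_card_pPrimeCore.symm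
  have hle : N ≤ centralizer ({σ} : Set G) := by
    refine subgroupOf_eq_top.1 (index_eq_one.1 ?_)
    by_contra hne
    obtain ⟨q, hq, hqd⟩ := Nat.exists_prime_and_dvd hne
    haveI := Fact.mk hq
    obtain ⟨Q, hQ⟩ := Coprime.exists_invariant_sylow (A := zpowers x) (K := N) le_normalizer_of_normal hcop
      (Or.inl inferInstance) q
    have hqp : p ≠ q := by
      rintro rfl
      exact Nat.Prime.coprime_iff_not_dvd hp.out |>.1 Core.coprime_card_pPrimeCore.symm
        (hqd.trans (index_dvd_card _))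
    refine Q.not_dvd_index (hqd.trans (index_dvd_of_le fun y hy => ?_))
    exact mem_subgroupOf.2 (mem_centralizer_singleton_iff.2
      (hall q ⟨hq⟩ ((Q : Subgroup N).map N.subtype) hqp (Q.2.map _) (hQ (mem_zpowers x)) y
        (mem_map_of_mem N.subtype hy)).symm)
  have hmem : σ ∈ N := Core.centralizer_pPrimeCore_le hG hO
    (mem_centralizer_iff.2 fun y hy => (mem_centralizer_singleton_iff.1 (hle hy)))
  have h1 : orderOf σ ∣ Nat.card (zpowers x) := by
    rw [Nat.card_zpowers, hσ]; exact orderOf_pow_dvd _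
  have h2 := orderOf_eq_one_iff.1 (Nat.eq_one_of_dvd_coprimes hcop h1 (Subgroup.orderOf_dvd_natCard _ hmem))
  rw [hσ] at h2
  have h3 := Nat.le_of_dvd (pow_pos hp.out.pos _) (hord ▸ orderOf_dvd_of_pow_eq_one h2)
  have h4 : p ^ (n - 1) < p ^ n := Nat.pow_lt_pow_right hp.out.one_lt (by omega)
  omega

/-- Theorem B over an algebraically closed field. -/
theorem theoremB_closed {K : Type*} [Field K] [IsAlgClosed K] [CharP K p] {V : Type*} [AddCommGroup V]
    [Module K V] [FiniteDimensional K V] (hG : Cfsg.IsPSolvable p G) (hO : Cfsg.pCore p G = ⊥)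
    (ρ : G →* Module.End K V) (hinj : Function.Injective ρ) {x : G} {n : ℕ} (hn : 1 ≤ n)
    (hord : orderOf x = p ^ n) {s : ℕ} (hs : (ρ x - 1) ^ s = 0) :
    p ^ n ≤ s ∨ ∃ n₀ q m : ℕ, 1 ≤ n₀ ∧ n₀ ≤ n ∧ q.Prime ∧ 1 ≤ m ∧ p ^ n₀ - 1 = q ^ m ∧
      (∀ Q : Sylow q G, ¬ IsMulCommutative (Q : Subgroup G)) ∧ p ^ (n - n₀) * (p ^ n₀ - 1) ≤ s := by
  obtain ⟨q, hq, Q, hpq, hQ, hxQ, hns⟩ := exists_operator_group hG hO hn hord
  rcases index_bound hpq ρ hinj hQ hxQ hn hord hns hs with h | ⟨n₀, b, h1, h2, h3, h4, h5, h6⟩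
  · exact Or.inl h
  · refine Or.inr ⟨n₀, q, b, h1, h2, hq.out, h3, h4, fun S hS => h5 ?_, h6⟩
    haveI := hS
    obtain ⟨T, hT⟩ := hQ.exists_le_sylow
    obtain ⟨g, rfl⟩ := MulAction.exists_smul_eq G T S
    refine IsMulCommutative.of_setLike_mul_comm fun a ha b hb => ?_
    have hmem : ∀ {a : G}, a ∈ Q → g * a * g⁻¹ ∈ ((g • T : Sylow q G) : Subgroup G) := fun {a} ha => by
      rw [Sylow.coe_subgroup_smul]
      exact ⟨a, hT ha, rfl⟩
    have h := setLike_mul_comm (s := ((g • T : Sylow q G) : Subgroup G)) (hmem ha) (hmem hb)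
    have h' := congrArg (fun z => g⁻¹ * z * g) h
    simpa [mul_assoc] using h'

/-- Theorem B over any field of characteristic `p`. -/
theorem theoremB {F : Type*} [Field F] [CharP F p] {V : Type*} [AddCommGroup V]
    [Module F V] [FiniteDimensional F V] (hG : Cfsg.IsPSolvable p G) (hO : Cfsg.pCore p G = ⊥)
    (ρ : G →* Module.End F V) (hinj : Function.Injective ρ) {x : G} {n : ℕ} (hn : 1 ≤ n)
    (hord : orderOf x = p ^ n) {s : ℕ} (hs : (ρ x - 1) ^ s = 0) :
    p ^ n ≤ s ∨ ∃ n₀ q m : ℕ, 1 ≤ n₀ ∧ n₀ ≤ n ∧ q.Prime ∧ 1 ≤ m ∧ p ^ n₀ - 1 = q ^ m ∧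
      (∀ Q : Sylow q G, ¬ IsMulCommutative (Q : Subgroup G)) ∧ p ^ (n - n₀) * (p ^ n₀ - 1) ≤ s := by
  classical
  let bas := Module.finBasis F V
  let k := AlgebraicClosure F
  haveI : CharP k p := charP_of_injective_algebraMap (algebraMap F k).injective p
  let Φ : Module.End F V →+* Module.End k (Fin (Module.finrank F V) → k) :=
    (Matrix.toLinAlgEquiv' (R := k) (n := Fin (Module.finrank F V))).toAlgHom.toRingHom.comp
      ((algebraMap F k).mapMatrix.comp (LinearMap.toMatrixAlgEquiv bas).toAlgHom.toRingHom)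
  have hΦ : Function.Injective Φ :=
    (Matrix.toLinAlgEquiv' (R := k) (n := Fin (Module.finrank F V))).injective.comp
      ((Matrix.map_injective (algebraMap F k).injective).comp (LinearMap.toMatrixAlgEquiv bas).injective)
  refine theoremB_closed hG hO (Φ.toMonoidHom.comp ρ) (hΦ.comp hinj) hn hord (s := s) ?_
  show (Φ (ρ x) - 1) ^ s = 0
  rw [← map_one Φ, ← map_sub, ← map_pow, hs, map_zero]

end Cfsg.Agent.HallHigman
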